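import Mathlib.LinearAlgebra.Alternating.Basic
import Mathlib.LinearAlgebra.Multilinear.Basic
import Mathlib.LinearAlgebra.FreeModule.Finite.Matrix
import Mathlib.LinearAlgebra.FiniteDimensional.Lemmas
import Mathlib.RingTheory.Jacobson.Ideal
import Cfsg.Agent.BlockAlg8.Algebra

/-!
# Blocks of symmetric algebras with the identities of a matrix algebra

A block `e A` with matrix units of size `n`, satisfying the Capelli identity of degree `N + 2`,
has a commutative corner when `N + 1 ≤ n * n`, and no matrix units of size `n` when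
`N + 2 ≤ n * n`. The centre of the block is then the corner, and has a one-dimensional socle.
-/

set_option autoImplicit false

namespace Cfsg.Agent.BC87.EqAb

variable {K A : Type*} [Field K] [Ring A] [Algebra K A]

/-- The alternating sum of products, interleaved with `y`. -/
noncomputable def capelli {R : Type*} [Ring R] {m : ℕ} (x y : Fin m → R) : R :=
  ∑ σ : Equiv.Perm (Fin m), Equiv.Perm.sign σ • (List.ofFn fun k => x (σ k) * y k).prod

theorem capelli_map {R S : Type*} [Ring R] [Ring S] (f : R →+* S) {m : ℕ} (x y : Fin m → R) :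
    f (capelli x y) = capelli (f ∘ x) (f ∘ y) := by
  rw [capelli, capelli, map_sum]
  refine Finset.sum_congr rfl fun σ _ => ?_
  rw [Units.smul_def, Units.smul_def, map_zsmul, map_list_prod, List.map_ofFn]
  congr 2
  refine List.ofFn_inj.mpr (funext fun k => ?_)
  simp

/-- The Capelli identity of a matrix algebra. -/
theorem capelli_matrix {L : Type*} [Field L] {d m : ℕ} (hm : d * d < m) (x y : Fin m → Matrix (Fin d) (Fin d) L) :
    capelli x y = 0 := by
  classical
  let Φ : MultilinearMap L (fun _ : Fin m => Matrix (Fin d) (Fin d) L) (Matrix (Fin d) (Fin d) L) :=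
    (MultilinearMap.mkPiAlgebraFin L m (Matrix (Fin d) (Fin d) L)).compLinearMap
      fun k => LinearMap.mulRight L (y k)
  have h1 : MultilinearMap.alternatization Φ x = capelli x y := by
    rw [MultilinearMap.alternatization_apply, capelli]
    refine Finset.sum_congr rfl fun σ _ => ?_
    simp [Φ, MultilinearMap.domDomCongr_apply]
  rw [← h1]
  refine AlternatingMap.map_linearDependent _ x fun hli => ?_
  have h := hli.fintype_card_le_finrank
  rw [Fintype.card_fin, Module.finrank_matrix, Module.finrank_self, Fintype.card_fin, mul_one] at h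
  omega

section Units

variable {n : ℕ}

/-- Exact matrix units from units modulo a nilpotent ideal. -/
theorem units_orth {e f : A} {U V : Fin n → A} {J : Ideal A} {NJ : ℕ} (hNJ : J ^ NJ = ⊥)
    (hff : f * f = f) (hUf : ∀ a, U a * f = U a) (hfV : ∀ a, f * V a = V a)
    (hVe : ∀ a, V a * e = V a) (hUV : ∑ a, U a * V a = e)
    (hmem : ∀ a b, (if a = b then f else 0) - V a * U b ∈ J) :
    ∀ a b, V a * U b = if a = b then f else 0 := by
  classical
  let q : Fin n → Fin n → A := fun a b => (if a = b then f else 0) - V a * U b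
  have hq : ∀ a c, ∑ b, q a b * q b c = q a c := by
    intro a c
    have e1 : ∀ b, q a b * q b c = (if a = b then (if b = c then f else 0) else 0) -
        (if a = b then V b * U c else 0) - (if b = c then V a * U b else 0) +
          V a * (U b * V b) * U c := by
      intro b
      simp only [q, sub_mul, mul_sub, ite_mul, mul_ite, zero_mul, mul_zero, hff, ← mul_assoc, hfV]
      rw [mul_assoc (V a) (U b) f, hUf]
      split_ifs <;> simp_all <;> abel
    simp only [e1, Finset.sum_sub_distrib, Finset.sum_add_distrib, Finset.sum_ite_eq,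
      Finset.sum_ite_eq', Finset.mem_univ, if_true, ← Finset.sum_mul, ← Finset.mul_sum, hUV, hVe]
    simp only [q]
    abel
  have hpow : ∀ m a c, q a c ∈ J ^ (m + 1) := by
    intro m
    induction m with
    | zero => intro a c; rw [Submodule.pow_one]; exact hmem a c
    | succ m ih =>
      intro a c
      rw [← hq a c]
      refine Submodule.sum_mem _ fun b _ => ?_
      rw [Submodule.pow_succ]
      exact Ideal.mul_mem_mul (ih a b) (hmem b c)
  intro a b
  have h : q a b ∈ J ^ NJ := by
    rcases Nat.eq_zero_or_pos NJ with h0 | h0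
    · subst h0
      rw [Submodule.pow_zero, Ideal.one_eq_top]
      trivial
    · have := hpow (NJ - 1) a b
      rwa [Nat.sub_add_cancel h0] at this
  rw [hNJ, Ideal.mem_bot] at h
  exact (sub_eq_zero.mp h).symm

variable (e f : A) (U V : Fin n → A)

/-- A chain of matrix units. -/
theorem chain_prod (hff : f * f = f) (hVU : ∀ a b, V a * U b = if a = b then f else 0) :
    ∀ (m : ℕ) (α : Fin m → Fin n) (c : Fin m → A) (s : Fin (m + 1) → Fin n),
      V (s 0) * (List.ofFn fun k => U (α k) * c k * V (s k.succ)).prod * U (s (Fin.last m)) =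
        if (∀ k, α k = s k.castSucc) then f * (List.ofFn fun k => c k * f).prod else 0 := by
  intro m
  induction m with
  | zero =>
    intro α c s
    rw [if_pos fun k => k.elim0]
    simp [hVU]
  | succ m ih =>
    intro α c s
    rw [List.ofFn_succ, List.prod_cons]
    have h := ih (fun k => α k.succ) (fun k => c k.succ) (fun k => s k.succ)
    have e1 : V (s 0) * (U (α 0) * c 0 * V (s (Fin.succ 0)) *
        (List.ofFn fun k : Fin m => U (α k.succ) * c k.succ * V (s k.succ.succ)).prod) *
          U (s (Fin.last (m + 1))) =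
        (V (s 0) * U (α 0)) * c 0 * (V (s (Fin.succ 0)) *
          (List.ofFn fun k : Fin m => U (α k.succ) * c k.succ * V (s k.succ.succ)).prod *
            U (s (Fin.last m).succ)) := by
      rw [Fin.succ_last]
      simp only [mul_assoc]
    rw [e1, h, hVU]
    by_cases h0 : s 0 = α 0
    · rw [if_pos h0]
      by_cases hk : ∀ k : Fin m, α k.succ = s k.castSucc.succ
      · rw [if_pos hk, if_pos, List.ofFn_succ, List.prod_cons]
        · simp only [mul_assoc]
        · intro k
          refine Fin.cases ?_ (fun k => ?_) k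
          · simpa using h0.symm
          · rw [hk k, Fin.castSucc_succ]
      · rw [if_neg hk, mul_zero, if_neg]
        exact fun h => hk fun k => by rw [h k.succ, Fin.castSucc_succ]
    · rw [if_neg h0, zero_mul, zero_mul, if_neg]
      exact fun h => h0 (by simpa using (h 0).symm)

variable (hff : f * f = f) (hVU : ∀ a b, V a * U b = if a = b then f else 0)
  (hVe : ∀ a, V a * e = V a) (hUf : ∀ a, U a * f = U a) (hfV : ∀ a, f * V a = V a)

include hff hVU hVe in
/-- The value of the Capelli identity on a labelled family of matrix units. -/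
theorem capelli_value {m : ℕ} (r : Fin (m + 1) → Fin n × Fin n) (c : Fin (m + 1) → A)
    (hcap : ∀ x y : Fin (m + 1) → A, e * capelli x y = 0) :
    ∑ σ : Equiv.Perm (Fin (m + 1)), Equiv.Perm.sign σ •
      (if ∀ k, r (σ k) = r k then f * (List.ofFn fun k => c (σ k) * f).prod else 0) = 0 := by
  classical
  let s : Fin (m + 2) → Fin n := Fin.snoc (fun k => (r k).1) (r 0).1
  have hs0 : ∀ k : Fin (m + 1), s k.castSucc = (r k).1 := fun k => by simp [s]
  have hlast : s (Fin.last (m + 1)) = (r 0).1 := by simp [s]
  have hfirst : s 0 = (r 0).1 := by rw [← hs0 0]; rfl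
  let x : Fin (m + 1) → A := fun k => U (r k).1 * c k * V (r k).2
  let y : Fin (m + 1) → A := fun k => U (r k).2 * V (s k.succ)
  have h := congrArg (fun z => V (s 0) * z * U (s (Fin.last (m + 1)))) (hcap x y)
  simp only [mul_zero, zero_mul] at h
  rw [← mul_assoc, hVe, capelli, Finset.mul_sum, Finset.sum_mul] at h
  refine Eq.trans (Finset.sum_congr rfl fun σ _ => ?_) h
  rw [mul_smul_comm, smul_mul_assoc]
  congr 1
  let c' : Fin (m + 1) → A := fun k => if (r (σ k)).2 = (r k).2 then c (σ k) * f else 0
  have hxy : (fun k => x (σ k) * y k) = fun k => U (r (σ k)).1 * c' k * V (s k.succ) := by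
    funext k
    simp only [x, y, c']
    rw [show U (r (σ k)).1 * c (σ k) * V (r (σ k)).2 * (U (r k).2 * V (s k.succ)) =
      U (r (σ k)).1 * c (σ k) * (V (r (σ k)).2 * U (r k).2) * V (s k.succ) by
        simp only [mul_assoc], hVU]
    split_ifs <;> simp [mul_assoc]
  rw [hxy, chain_prod f U V hff hVU]
  simp only [hs0]
  by_cases hr : ∀ k, r (σ k) = r k
  · rw [if_pos hr, if_pos fun k => by rw [hr k]]
    congr 2
    refine List.ofFn_inj.mpr (funext fun k => ?_)
    simp [c', hr k, mul_assoc, hff]
  · rw [if_neg hr]
    split_ifs with h1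
    · push Not at hr
      obtain ⟨k, hk⟩ := hr
      rw [List.prod_eq_zero, mul_zero]
      rw [List.mem_ofFn]
      exact ⟨k, by simp [c', show (r (σ k)).2 ≠ (r k).2 from fun h2 => hk (Prod.ext (h1 k) h2)]⟩
    · rfl

theorem list_prod_const {m : ℕ} (hff : f * f = f) :
    f * (List.ofFn fun _ : Fin m => f * f).prod = f := by
  induction m with
  | zero => simp
  | succ m ih => rw [List.ofFn_succ, List.prod_cons, hff, ← mul_assoc, hff]; simpa [hff] using ih

include hff hVU hVe in
/-- No large matrix units under the identity. -/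
theorem sq_le_of_capelli (hf : f ≠ 0) {m : ℕ} (hcap : ∀ x y : Fin (m + 1) → A, e * capelli x y = 0) :
    n * n ≤ m := by
  classical
  by_contra hlt
  obtain ⟨g⟩ := Function.Embedding.nonempty_of_card_le (α := Fin (m + 1)) (β := Fin n × Fin n)
    (by simp; omega)
  have h := capelli_value e f U V hff hVU hVe (fun k => g k) (fun _ => f) hcap
  rw [Finset.sum_eq_single 1] at h
  · rw [if_pos (fun k => by simp), map_one, one_smul] at h
    exact hf ((list_prod_const f hff).symm.trans h)
  · intro σ _ hσ
    rw [if_neg fun hk => hσ (Equiv.ext fun k => g.injective (hk k)), smul_zero]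
  · exact fun h => absurd (Finset.mem_univ _) h

include hff hVU hVe in
/-- The corner is commutative. -/
theorem corner_comm {N : ℕ} (hN : N + 1 ≤ n * n)
    (hcap : ∀ x y : Fin (N + 2) → A, e * capelli x y = 0) {a b : A}
    (ha : f * a = a ∧ a * f = a) (hb : f * b = b ∧ b * f = b) : a * b = b * a := by
  classical
  obtain ⟨g⟩ := Function.Embedding.nonempty_of_card_le (α := Fin (N + 1)) (β := Fin n × Fin n)
    (by simpa using hN)
  let r : Fin (N + 2) → Fin n × Fin n := Fin.cons (g 0) fun k => g k
  let c : Fin (N + 2) → A := Fin.cons a (Fin.cons b fun _ => f)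
  have hσ : ∀ σ : Equiv.Perm (Fin (N + 2)), (∀ k, r (σ k) = r k) →
      σ = 1 ∨ σ = Equiv.swap 0 1 := by
    intro σ hr
    have key : ∀ k, 1 < k.1 → σ k = k := by
      intro k hk
      obtain ⟨k', rfl⟩ := Fin.exists_succ_eq.mpr (show k ≠ 0 by rintro rfl; simp at hk)
      have h := hr k'.succ
      obtain h0 | ⟨j, hj⟩ := Fin.eq_zero_or_eq_succ (σ k'.succ)
      · simp only [h0, r, Fin.cons_zero, Fin.cons_succ] at h
        have := g.injective h
        subst this
        simp at hk
      · simp only [hj, r, Fin.cons_succ] at h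
        rw [hj, g.injective h]
    have h01 : ∀ k, k = 0 ∨ k = 1 → σ k = 0 ∨ σ k = 1 := by
      intro k hk
      by_contra hne
      push Not at hne
      have h1 : 1 < (σ k).1 := by
        rcases Nat.lt_or_ge 1 (σ k).1 with h | h
        · exact h
        · exfalso
          rcases Nat.le_one_iff_eq_zero_or_eq_one.mp h with h | h
          · exact hne.1 (Fin.ext h)
          · exact hne.2 (Fin.ext (by simpa using h))
      have h2 := σ.injective (key _ h1)
      rw [h2] at h1
      rcases hk with rfl | rfl <;> simp at h1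
    rcases h01 0 (Or.inl rfl) with h0 | h0
    · left
      refine Equiv.ext fun k => ?_
      rw [Equiv.Perm.one_apply]
      rcases Nat.lt_or_ge 1 k.1 with hk | hk
      · exact key k hk
      rcases Nat.le_one_iff_eq_zero_or_eq_one.mp hk with hk | hk
      · rwa [show k = 0 from Fin.ext hk]
      · rw [show k = 1 from Fin.ext (by simpa using hk)]
        refine (h01 1 (Or.inr rfl)).resolve_left fun h => ?_
        exact absurd (σ.injective (h.trans h0.symm)) (by simp [Fin.ext_iff])
    · right
      refine Equiv.ext fun k => ?_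
      rcases Nat.lt_or_ge 1 k.1 with hk | hk
      · rw [key k hk, Equiv.swap_apply_of_ne_of_ne] <;> rintro rfl <;> simp at hk
      rcases Nat.le_one_iff_eq_zero_or_eq_one.mp hk with hk | hk
      · rw [show k = 0 from Fin.ext hk, Equiv.swap_apply_left, h0]
      · rw [show k = 1 from Fin.ext (by simpa using hk), Equiv.swap_apply_right]
        refine (h01 1 (Or.inr rfl)).resolve_right fun h => ?_
        exact absurd (σ.injective (h.trans h0.symm)) (by simp [Fin.ext_iff])
  have hne : (0 : Fin (N + 2)) ≠ 1 := by simp [Fin.ext_iff]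
  have hr01 : r 0 = r 1 := by
    rw [show (1 : Fin (N + 2)) = Fin.succ 0 from rfl]
    simp [r]
  have h := capelli_value e f U V hff hVU hVe r c hcap
  rw [Finset.sum_eq_add_of_mem 1 (Equiv.swap 0 1) (Finset.mem_univ _) (Finset.mem_univ _)
      (fun h => hne (by simpa using congrArg (fun τ : Equiv.Perm (Fin (N + 2)) => τ 0) h))
      (fun σ _ hs => by
        rw [if_neg fun hk => (hσ σ hk).elim hs.1 hs.2, smul_zero]),
    if_pos (fun k => by simp), if_pos, map_one, one_smul, Equiv.Perm.sign_swap hne] at h
  · have hval : ∀ u v : A, u * f = u → f * u = u → v * f = v →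
        ∀ c' : Fin (N + 2) → A, c' 0 = u → c' 1 = v →
        (∀ k : Fin N, c' k.succ.succ = f) →
        f * (List.ofFn fun k => c' k * f).prod = u * v := by
      intro u v hu1 hu2 hv c' h0 h1 hk
      rw [List.ofFn_succ, List.prod_cons, List.ofFn_succ, List.prod_cons, h0,
        show c' (Fin.succ 0) = v from h1, hu1, hv, ← mul_assoc, hu2]
      rw [show (fun i : Fin N => c' i.succ.succ * f) = fun _ => f * f from
        funext fun k => by rw [hk]]
      conv_lhs => rw [← hv, mul_assoc v f, list_prod_const f hff, hv]
    simp only [Equiv.Perm.one_apply] at h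
    rw [hval a b ha.2 ha.1 hb.2 c rfl rfl (fun k => by simp [c]),
      hval b a hb.2 hb.1 ha.2 (fun k => c (Equiv.swap 0 1 k))
        (by simp only [Equiv.swap_apply_left]; rfl) (by simp only [Equiv.swap_apply_right]; rfl)
        (fun k => by
          rw [Equiv.swap_apply_of_ne_of_ne (Fin.succ_ne_zero _) (by simp [Fin.ext_iff])]
          simp [c])] at h
    simpa [sub_eq_zero, ← sub_eq_add_neg] using h
  · intro k
    by_cases h0 : k = 0
    · rw [h0, Equiv.swap_apply_left, hr01]
    by_cases h1 : k = 1
    · rw [h1, Equiv.swap_apply_right, hr01]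
    rw [Equiv.swap_apply_of_ne_of_ne h0 h1]

variable (hUV : ∑ a, U a * V a = e) (he : e * e = e) (hc : ∀ z, e * z = z * e)
  (heU : ∀ a, e * U a = U a)
  (hcomm : ∀ a b : A, f * a = a ∧ a * f = a → f * b = b ∧ b * f = b → a * b = b * a)

include hVU hVe hUf hfV hUV hc heU hcomm in
/-- The central element attached to an element of the corner. -/
theorem exists_central (o : Fin n) {b : A} (hb : f * b = b ∧ b * f = b) :
    ∃ z, (∀ w, z * w = w * z) ∧ e * z = z ∧ z * f = b := by
  classical
  have hVU0 : V o * U o = f := by rw [hVU, if_pos rfl]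
  have hz : ∀ w, (∑ p, U p * b * V p) * w = w * ∑ p, U p * b * V p := by
    intro w
    have hwe : ∀ p, V p * w = ∑ q, V p * w * U q * V q := fun p => by
      simp only [mul_assoc, ← Finset.mul_sum, hUV]
      rw [← hc w, ← mul_assoc (V p) e w, hVe]
    have hew : ∀ q, w * U q = ∑ p, U p * (V p * w * U q) := fun q => by
      simp only [← mul_assoc, ← Finset.sum_mul, hUV]
      rw [hc w, mul_assoc w e, heU]
    calc (∑ p, U p * b * V p) * w = ∑ p, ∑ q, U p * b * (V p * w * U q) * V q := by
          rw [Finset.sum_mul]
          refine Finset.sum_congr rfl fun p _ => ?_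
          conv_lhs => rw [mul_assoc, hwe p, Finset.mul_sum]
          simp only [mul_assoc]
      _ = ∑ p, ∑ q, U p * (V p * w * U q) * b * V q := by
          refine Finset.sum_congr rfl fun p _ => Finset.sum_congr rfl fun q _ => ?_
          rw [mul_assoc (U p) b, hcomm b _ hb ⟨by simp only [← mul_assoc, hfV],
            by simp only [mul_assoc, hUf]⟩, ← mul_assoc]
      _ = _ := by
          rw [Finset.sum_comm, Finset.mul_sum]
          refine Finset.sum_congr rfl fun q _ => ?_
          rw [← Finset.sum_mul, ← Finset.sum_mul, ← hew q]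
          simp only [mul_assoc]
  refine ⟨∑ p, U p * b * V p, hz, ?_, ?_⟩
  · rw [Finset.mul_sum]
    exact Finset.sum_congr rfl fun p _ => by simp only [← mul_assoc, heU]
  · have hcen : (∑ p, U p * b * V p) * V o = V o * ∑ p, U p * b * V p := hz (V o)
    conv_lhs => rw [← hVU0, ← mul_assoc, hcen, mul_assoc, Finset.sum_mul, Finset.mul_sum]
    rw [Finset.sum_eq_single o]
    · rw [show V o * (U o * b * V o * U o) = (V o * U o) * b * (V o * U o) by
        simp only [mul_assoc], hVU0, hb.1, hb.2]
    · intro p _ hp
      rw [show V o * (U p * b * V p * U o) = (V o * U p) * b * (V p * U o) by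
        simp only [mul_assoc], hVU, if_neg (Ne.symm hp), zero_mul, zero_mul]
    · exact fun h => absurd (Finset.mem_univ _) h

variable [FiniteDimensional K A]

/-- The centre of the block, as a subspace. -/
def centreSub (K : Type*) {A : Type*} [Field K] [Ring A] [Algebra K A] (e : A) : Submodule K A where
  carrier := {z | e * z = z ∧ ∀ w, z * w = w * z}
  zero_mem' := by simp
  add_mem' := fun ha hb => ⟨by rw [mul_add, ha.1, hb.1], fun w => by rw [add_mul, mul_add, ha.2, hb.2]⟩
  smul_mem' := fun c z hz => ⟨by rw [mul_smul_comm, hz.1],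
    fun w => by rw [smul_mul_assoc, mul_smul_comm, hz.2]⟩

theorem mem_centreSub {z : A} : z ∈ centreSub K e ↔ e * z = z ∧ ∀ w, z * w = w * z := Iff.rfl

include hVU hVe hUf hfV hUV he hc heU hcomm in
/-- The dimension of the block is at most `n * n` times that of its centre. -/
theorem finrank_block_le (o : Fin n) :
    Module.finrank K (LinearMap.range (LinearMap.mulLeft K e)) ≤
      n * n * Module.finrank K (centreSub K e) := by
  classical
  let Ψ : (Fin n × Fin n → centreSub K e) →ₗ[K] A :=
    { toFun := fun m => ∑ p, ∑ q, U p * ((m (p, q) : A) * f) * V q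
      map_add' := fun m m' => by
        simp only [Pi.add_apply, Submodule.coe_add, add_mul, mul_add, Finset.sum_add_distrib]
      map_smul' := fun c m => by
        simp only [Pi.smul_apply, Submodule.coe_smul, smul_mul_assoc, mul_smul_comm,
          Finset.smul_sum, RingHom.id_apply] }
  have hle : LinearMap.range (LinearMap.mulLeft K e) ≤ LinearMap.range Ψ := by
    rintro _ ⟨z, rfl⟩
    choose g hg1 hg2 hg3 using fun pq : Fin n × Fin n =>
      exists_central e f U V hVU hVe hUf hfV hUV hc heU hcomm o (b := V pq.1 * z * U pq.2)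
        ⟨by simp only [← mul_assoc, hfV], by simp only [mul_assoc, hUf]⟩
    refine ⟨fun pq => ⟨g pq, hg2 pq, hg1 pq⟩, ?_⟩
    show ∑ p, ∑ q, U p * (g (p, q) * f) * V q = e * z
    simp only [hg3]
    calc ∑ p, ∑ q, U p * (V p * z * U q) * V q = (∑ p, U p * V p) * z * ∑ q, U q * V q := by
          simp only [Finset.sum_mul, Finset.mul_sum, mul_assoc]
          exact Finset.sum_comm
      _ = e * z := by rw [hUV, mul_assoc, ← hc z, ← mul_assoc, he]
  refine (Submodule.finrank_mono hle).trans ((LinearMap.finrank_range_le Ψ).trans ?_)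
  rw [Module.finrank_pi_fintype, Finset.sum_const, Finset.card_univ, Fintype.card_prod,
    Fintype.card_fin, smul_eq_mul]

include hVU hVe hUf hfV hUV hc heU hcomm hff in
/-- The socle of the centre is one-dimensional. -/
theorem socle_ratio (o : Fin n) (lam : A →ₗ[K] K) (hsym : ∀ a b, lam (a * b) = lam (b * a))
    (hnd : ∀ x, (∀ y, lam (x * y) = 0) → x = 0) (ω : A → K) {z z' : A}
    (hz : z ∈ centreSub K e) (hz' : z' ∈ centreSub K e)
    (hzω : ∀ w ∈ centreSub K e, z * w = ω w • z) (hz'ω : ∀ w ∈ centreSub K e, z' * w = ω w • z')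
    (hne : z' ≠ 0) : ∃ s : K, z = s • z' := by
  classical
  have hback : ∀ u ∈ centreSub K e, u * f = 0 → u = 0 := by
    intro u hu h
    rw [← hu.1, ← hUV, Finset.sum_mul]
    refine Finset.sum_eq_zero fun p _ => ?_
    rw [mul_assoc, ← hfV p, ← hu.2, ← mul_assoc u f, h, zero_mul, mul_zero]
  have hlam : ∀ u ∈ centreSub K e, (∀ w ∈ centreSub K e, u * w = ω w • u) → u ≠ 0 →
      lam (u * f) ≠ 0 := by
    intro u hu huω hu0 h0
    apply hu0
    refine hback u hu (hnd _ fun y => ?_)
    obtain ⟨w, hw1, hw2, hw3⟩ := exists_central e f U V hVU hVe hUf hfV hUV hc heU hcomm o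
      (b := f * y * f) ⟨by simp only [← mul_assoc, hff], by simp only [mul_assoc, hff]⟩
    have e1 : lam (u * f * y) = lam (u * f * (f * y * f)) := by
      have h1 : u * f * (f * y * f) = u * f * y * f := by
        simp only [← mul_assoc]
        rw [mul_assoc u f f, hff]
      have h2 : f * (u * f * y) = u * f * y := by
        rw [← mul_assoc, ← mul_assoc f u f, ← hu.2 f, mul_assoc u f f, hff]
      rw [h1, hsym (u * f * y) f, h2]
    have e2 : u * f * (f * y * f) = ω w • (u * f) := by
      calc u * f * (f * y * f) = u * (f * y * f) := by simp only [← mul_assoc]; rw [mul_assoc u f f, hff]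
        _ = u * (w * f) := by rw [hw3]
        _ = _ := by rw [← mul_assoc, huω w ⟨hw2, hw1⟩, smul_mul_assoc]
    rw [e1, e2, map_smul, h0, smul_zero]
  refine ⟨lam (z * f) / lam (z' * f), sub_eq_zero.mp ?_⟩
  by_contra hd
  have hl' := hlam z' hz' hz'ω hne
  have hmem := (centreSub K e).sub_mem hz ((centreSub K e).smul_mem (lam (z * f) / lam (z' * f)) hz')
  refine hlam _ hmem (fun w hw => ?_) hd ?_
  · rw [sub_mul, smul_mul_assoc, hzω w hw, hz'ω w hw, smul_sub, smul_comm]
  · rw [sub_mul, smul_mul_assoc, map_sub, map_smul, smul_eq_mul, div_mul_cancel₀ _ hl', sub_self]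

end Units

end Cfsg.Agent.BC87.EqAb
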