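import Cfsg.Agent.BC87.EqAb.Defs
import Cfsg.Agent.BC85.Pairs.AbelianInertia
import Cfsg.Agent.BlockAlg8.Residue
import Cfsg.Agent.Lib.BlocksCore.Height
import Cfsg.Agent.S4669
import Cfsg.Agent.S4675

/-!
# The Brauer map on the centre of a block with abelian defect group and small socle
-/

set_option autoImplicit false

namespace Cfsg.Agent.BC87.EqAb

open BlocksCore BlocksDefect BC85
open scoped Classical

universe u

variable {G : Type u} [Group G] [Fintype G] {p : ℕ} [Fact p.Prime] {M : Ideal AlgInt} [M.IsPrime]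
  {B : Set (IrrCharacter G)}

local notation "C[" Q "]" => Subgroup.centralizer (Q : Set G)


omit [Fact p.Prime] in
private theorem conv_congr_left {X : Type*} [Group X] [Fintype X] {a a' b : X → ℂ}
    (h : ∀ y, MemLocalIdeal M (a y - a' y)) (hb : ∀ y, MemLocalRing M (b y)) (x : X) :
    MemLocalIdeal M (conv a b x - conv a' b x) := by
  rw [conv_apply, conv_apply, ← Finset.sum_sub_distrib]
  refine memLocalIdeal_sum fun y _ => ?_
  rw [← sub_mul]
  exact memLocalIdeal_mul_right (h y) (hb _)

omit [Fact p.Prime] in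
/-- The elements of the centre are the reductions of `eB * a`. -/
private theorem mem_centreSpace {v : G → Res M} (hM : IsPModular p M) (hB : IsPBlock M B)
    (hv : v ∈ centreSpace M B) :
    ∃ a : G → ℂ, IsIntClassFun M a ∧ v = fun x => red M (conv (blockCoeff B) a x) := by
  have hp : Fact p.Prime := ⟨hM.1⟩
  have heI := isIntClassFun_blockCoeff hM hB
  induction hv using Submodule.span_induction with
  | mem v hv => exact hv
  | zero =>
    refine ⟨0, isIntClassFun_zero, funext fun x => ?_⟩
    rw [conv_apply, Finset.sum_eq_zero fun y _ => by rw [Pi.zero_apply, mul_zero],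
      red_eq_zero memLocalIdeal_zero, Pi.zero_apply]
  | add v w _ _ hv hw =>
    obtain ⟨a, ha, rfl⟩ := hv
    obtain ⟨b, hb, rfl⟩ := hw
    refine ⟨a + b, isIntClassFun_add ha hb, funext fun x => ?_⟩
    rw [show conv (blockCoeff B) (a + b) x
        = conv (blockCoeff B) a x + conv (blockCoeff B) b x by
      simp only [conv_apply, Pi.add_apply, mul_add, Finset.sum_add_distrib]]
    rw [Pi.add_apply, red_of_mem ((isIntClassFun_conv heI ha).2 x),
      red_of_mem ((isIntClassFun_conv heI hb).2 x),
      red_of_mem ((localRing M).add_mem ((isIntClassFun_conv heI ha).2 x)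
        ((isIntClassFun_conv heI hb).2 x)), ← map_add]
    rfl
  | smul r v _ hv =>
    obtain ⟨a, ha, rfl⟩ := hv
    obtain ⟨⟨z, hz⟩, rfl⟩ := Ideal.Quotient.mk_surjective r
    refine ⟨z • a, isIntClassFun_smul ha hz, funext fun x => ?_⟩
    rw [show conv (blockCoeff B) (z • a) x = z * conv (blockCoeff B) a x by
      simp only [conv_apply, Finset.mul_sum, Pi.smul_apply, smul_eq_mul]
      exact Finset.sum_congr rfl fun y _ => by ring]
    rw [Pi.smul_apply, smul_eq_mul, red_mul hz ((isIntClassFun_conv heI ha).2 x), red_of_mem hz]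

/-- A height zero character survives in some block of the centralizer of the defect group. -/
private theorem exists_pair (hM : IsPModular p M) (hB : IsPBlock M B) {P : Subgroup G}
    (hP : IsDefectGroup p M B P) {χ : IrrCharacter G} (hχ : χ ∈ B)
    (h0 : blockHeight p B (χ : G → ℂ) = 0) :
    ∃ b : Set (IrrCharacter (Subgroup.centralizer (P : Set G))),
      IsBrauerPairOf p M B P b ∧
      ∃ c, ¬ MemLocalIdeal M (conv
        (pullFun (Subgroup.centralizer (P : Set G)).subtype (invFun' (χ : G → ℂ)))
        (blockCoeff b) c) := by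
  obtain ⟨g, hg, hS⟩ := isDefectGroup_iff.mp hP
  have hPp : IsPGroup p P := hS.isPGroup
  have hι := isCentHom_subtype P
  set F := invFun' (χ : G → ℂ) with hF
  have hFI : IsIntClassFun M F :=
    ⟨fun y x => by
      show (χ : G → ℂ) (x * y * x⁻¹)⁻¹ = (χ : G → ℂ) y⁻¹
      rw [show (x * y * x⁻¹)⁻¹ = x * y⁻¹ * x⁻¹ by group]
      exact irr_class χ _ _,
      fun y => memLocalRing_of_isIntegral (isIntegral_irr χ _)⟩
  have heI := isIntClassFun_blockCoeff hM hB
  have heF : conv (blockCoeff B) F = F := by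
    refine eq_of_omega_eq (isClassFunction_conv heI.1 hFI.1) hFI.1 fun ψ => ?_
    rw [omega_conv ψ heI.1 hFI.1, omega_blockCoeff]
    by_cases hψ : ψ ∈ B
    · rw [Set.indicator_of_mem hψ, Pi.one_apply, one_mul]
    · rw [Set.indicator_of_notMem hψ, zero_mul, omega_eq_sum]
      rw [eq_comm, div_eq_zero_iff, or_iff_left (irr_one_ne_zero ψ)]
      have h := sum_char_mul_inv (G := G) ψ χ
      rw [if_neg (fun h' : ψ = χ => hψ (by rw [h']; exact hχ))] at h
      rw [← h]
      exact Finset.sum_congr rfl fun y _ => mul_comm _ _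
  -- a unit value
  set pF : C[P] → ℂ := pullFun (C[P]).subtype F with hpF
  have hpFI : IsIntClassFun M pF := isIntClassFun_pullFun hι (isBrFun_of_intClassFun hFI)
  have hgC : g⁻¹ ∈ C[P] := C[P].inv_mem hS.mem_centralizer
  have hunit : ¬ MemLocalIdeal M (pF ⟨g⁻¹, hgC⟩) := by
    show ¬ MemLocalIdeal M ((χ : G → ℂ) (g⁻¹)⁻¹)
    have := BlocksCore.height_zero_apply_unit hM hB hg (x := 1) (Commute.one_left g) (k := 0)
      (by rw [orderOf_one, pow_zero]) hχ h0
    rwa [one_mul, ← inv_inv g] at this
  -- split into blocks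
  haveI : Finite (IrrCharacter C[P]) := finite_irr
  let α := {f : Set (IrrCharacter C[P]) // IsPBlock M f}
  haveI : Fintype α := Fintype.ofFinite α
  have hone : (∑ f : α, blockCoeff f.1) = classInd (1 : C[P]) := by
    refine eq_of_omega_eq (fun x y => ?_) (isClassFunction_classInd _) fun θ => ?_
    · simp only [Finset.sum_apply]
      exact Finset.sum_congr rfl fun f _ => isClassFunction_blockCoeff f.1 x y
    · rw [omega_sum, omega_classInd_one, Finset.sum_eq_single ⟨_, isPBlock_blockOf θ⟩]
      · rw [omega_blockCoeff, Set.indicator_of_mem (mem_blockOf_self θ)]; rfl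
      · intro f _ hf
        rw [omega_blockCoeff, Set.indicator_of_notMem]
        exact fun hm => hf (Subtype.ext (isPBlock_eq_blockOf f.2 hm))
      · exact fun h => absurd (Finset.mem_univ _) h
  obtain ⟨f, hf⟩ : ∃ f : α, ¬ MemLocalIdeal M (conv pF (blockCoeff f.1) ⟨g⁻¹, hgC⟩) := by
    by_contra hno
    push Not at hno
    have hz := memLocalIdeal_sum (s := (Finset.univ : Finset α)) fun f _ => hno f
    have e : ∑ f : α, conv pF (blockCoeff f.1) ⟨g⁻¹, hgC⟩
        = conv pF (∑ f : α, blockCoeff f.1) ⟨g⁻¹, hgC⟩ := by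
      simp only [conv_apply, Finset.sum_apply, Finset.mul_sum]
      exact Finset.sum_comm
    rw [e, hone, ← conv_comm_of_isClassFunction pF (isClassFunction_classInd _),
      conv_delta] at hz
    exact hunit hz
  refine ⟨f.1, (isBrauerPairOf_iff hM).mpr ⟨⟨hPp, f.2⟩, hB, ?_⟩, _, hf⟩
  by_contra hns
  set U := cset M P (blockCoeff B) with hU
  have hbr := isBrFun_blockCoeff hM P hB
  have hUu : IsBlockUnion M U := isBlockUnion_cset hM hbr
  have hdis : U ∩ f.1 = ∅ := Set.eq_empty_iff_forall_notMem.mpr fun ξ hξ =>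
    hns (hUu.subset_of_mem f.2 hξ.1 hξ.2)
  have hbI := isIntClassFun_blockCoeff hM f.2
  have hUI := isIntClassFun_blockCoeff_union hM hUu
  have h1 : ∀ c : C[P], MemLocalIdeal M (pF c - conv (blockCoeff U) pF c) := by
    intro c
    have e1 := conv_pull_sub hM hPp hι (a := blockCoeff B) (b := F) hbr
      (isBrFun_of_intClassFun hFI) c
    rw [heF] at e1
    have e2 := conv_congr_left (M := M) (a := pullFun (C[P]).subtype (blockCoeff B))
      (a' := blockCoeff U) (b := pF)
      (pull_sub_blockCoeff_brSet hM hPp hι hbr (blockCoeff_idem_mod B)) hpFI.2 c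
    have e3 := memLocalIdeal_add e1 e2
    rwa [sub_add_sub_cancel] at e3
  have h2 := conv_congr_left (M := M) (b := blockCoeff f.1) h1 hbI.2 ⟨g⁻¹, hgC⟩
  have e : conv (conv (blockCoeff U) pF) (blockCoeff f.1) = 0 := by
    rw [conv_comm_of_isClassFunction pF hUI.1, conv_assoc, conv_blockCoeff, hdis, blockCoeff_empty]
    funext x
    rw [conv_apply]
    exact Finset.sum_eq_zero fun y _ => by rw [Pi.zero_apply, mul_zero]
  rw [e, Pi.zero_apply, sub_zero] at h2
  exact hf h2

/-- A block with central defect group has at most as many characters as the defect group has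
elements. -/
private theorem natCard_le_of_central {K : Type*} [Group K] [Fintype K] (hM : IsPModular p M)
    {b : Set (IrrCharacter K)} (hb : IsPBlock M b) {P : Subgroup K}
    (hP : IsDefectGroup p M b P) (hZ : P ≤ Subgroup.center K) : Nat.card b ≤ Nat.card P := by
  haveI : Finite (IrrCharacter K) := finite_irr
  obtain ⟨φ, d, -, hd, hsum⟩ := S4675.result p M hM b hb P hP
    (S4669.result p M hM b hb P hP hZ)
  rw [← hsum, finsum_mem_eq_finite_toFinset_sum _ (Set.toFinite b), Nat.card_eq_card_toFinset,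
    Finset.card_eq_sum_ones]
  refine le_of_eq_of_le (by congr 1; ext; simp) (Finset.sum_le_sum fun θ hθ => ?_)
  refine Nat.one_le_pow _ _ (Nat.pos_of_ne_zero fun h0 => irr_one_ne_zero θ ?_)
  rw [hd θ ((Set.Finite.mem_toFinset _).mp hθ) 1
    (by rw [IsPRegular, orderOf_one]; exact hM.1.not_dvd_one), h0, Nat.cast_zero, zero_mul]

/-- If every nonzero element of the centre of the block has a multiple in the line of `χ`, the
centre has dimension the order of the abelian defect group and `χ` has height zero, then the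
inertial quotient is trivial. -/
theorem inertia_trivial (hM : IsPModular p M) (hB : IsPBlock M B) {P : Subgroup G}
    (hP : IsDefectGroup p M B P) (hab : ∀ x ∈ P, ∀ y ∈ P, x * y = y * x)
    {χ : IrrCharacter G} (hχ : χ ∈ B) (h0 : blockHeight p B (χ : G → ℂ) = 0)
    (hdim : Nat.card P ≤ Module.finrank (Res M) (centreSpace M B))
    (hsoc : ∀ a : G → ℂ, IsIntClassFun M a →
      (∃ x, ¬ MemLocalIdeal M (conv (blockCoeff B) a x)) →
      ∃ (c : G → ℂ) (u : ℂ), IsIntClassFun M c ∧ MemLocalRing M u ∧ ¬ MemLocalIdeal M u ∧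
        ∀ x, MemLocalIdeal M
          (conv (conv (blockCoeff B) a) c x - u * invFun' (χ : G → ℂ) x)) :
    ∃ e : Set (IrrCharacter (Subgroup.centralizer (P : Set G))),
      IsMaximalBrauerPair p M B P e ∧
      ∀ x : G, x ∈ Subgroup.normalizer (P : Set G) →
        StabilizesBlock (Subgroup.centralizer (P : Set G)) e x →
        x ∈ Subgroup.centralizer (P : Set G) := by
  obtain ⟨b, hbp, c₀, hc₀⟩ := exists_pair hM hB hP hχ h0
  have hmax := isMaximal_of_defect hM hP hbp
  refine ⟨b, hmax, fun x hxN hxb => ?_⟩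
  have hPp : IsPGroup p P := hbp.1.1
  have hb : IsPBlock M b := hbp.1.2
  have hι := isCentHom_subtype P
  have hPC : P ≤ C[P] := fun u hu =>
    Subgroup.mem_centralizer_iff.mpr fun q hq => hab q hq u hu
  -- the defect group of the block of the centralizer
  have hfc : IsDefectGroup p M b (P.subgroupOf C[P]) := by
    have h := (fullyCentralized_iff hM (isBlockFusionSystemOn_blockFusion hM hmax)
      (Relation.ReflTransGen.refl : SubpairLE p M P b P b)).mp
      ⟨le_rfl, fun R _ => by
        rw [FusionSystem.centralizerIn, FusionSystem.centralizerIn, inf_eq_left.mpr hPC]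
        exact Subgroup.card_le_of_le inf_le_left⟩
    rwa [inf_eq_left.mpr hPC] at h
  have hcentral : P.subgroupOf C[P] ≤ Subgroup.center C[P] := fun u hu =>
    Subgroup.mem_center_iff.mpr fun c => Subtype.ext
      (Subgroup.mem_centralizer_iff.mp c.2 u hu).symm
  have hcardb : Nat.card b ≤ Nat.card P :=
    (natCard_le_of_central hM hb hfc hcentral).trans_eq
      (Nat.card_congr (Subgroup.subgroupOfEquivOfLe hPC).toEquiv)
  have hbI := isIntClassFun_blockCoeff hM hb
  have hFI : IsIntClassFun M (invFun' (χ : G → ℂ)) :=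
    ⟨fun y t => by
      show (χ : G → ℂ) (t * y * t⁻¹)⁻¹ = (χ : G → ℂ) y⁻¹
      rw [show (t * y * t⁻¹)⁻¹ = t * y⁻¹ * t⁻¹ by group]
      exact irr_class χ _ _,
      fun y => memLocalRing_of_isIntegral (isIntegral_irr χ _)⟩
  -- the Brauer map followed by the projection to `b`
  let Φ : (G → Res M) →ₗ[Res M] (C[P] → Res M) :=
    { toFun := fun v c => ∑ y : C[P], v (y : G) * red M (blockCoeff b (y⁻¹ * c))
      map_add' := fun v w => funext fun c => by
        simp only [Pi.add_apply, add_mul, Finset.sum_add_distrib]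
      map_smul' := fun r v => funext fun c => by
        simp only [Pi.smul_apply, smul_eq_mul, RingHom.id_apply, Finset.mul_sum, mul_assoc] }
  have hΦ : ∀ w : G → ℂ, (∀ y, MemLocalRing M (w y)) →
      Φ (fun y => red M (w y)) =
        fun c => red M (conv (pullFun (C[P]).subtype w) (blockCoeff b) c) := by
    intro w hw
    funext c
    rw [conv_apply, red_sum (M := M) Finset.univ
      (f := fun y : C[P] => pullFun (C[P]).subtype w y * blockCoeff b (y⁻¹ * c))
      fun y => (localRing M).mul_mem (hw _) (hbI.2 _)]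
    exact Finset.sum_congr rfl fun y _ => (red_mul (hw _) (hbI.2 _)).symm
  -- injectivity
  have hinj : Function.Injective (Φ.domRestrict (centreSpace M B)) := by
    rw [← LinearMap.ker_eq_bot, LinearMap.ker_eq_bot']
    rintro ⟨v, hv⟩ hv0
    obtain ⟨a, ha, rfl⟩ := mem_centreSpace hM hB hv
    by_contra hne
    have hw : IsIntClassFun M (conv (blockCoeff B) a) :=
      isIntClassFun_conv (isIntClassFun_blockCoeff hM hB) ha
    obtain ⟨c, u, hc, hu, hu', hrel⟩ := hsoc a ha (by
      by_contra hno
      push Not at hno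
      exact hne (Subtype.ext (funext fun y => red_eq_zero (hno y))))
    set w := conv (blockCoeff B) a with hwdef
    have hpw := isIntClassFun_pullFun hι (isBrFun_of_intClassFun hw)
    have hpc := isIntClassFun_pullFun hι (isBrFun_of_intClassFun hc)
    have hwb : ∀ d : C[P], MemLocalIdeal M (conv (pullFun (C[P]).subtype w) (blockCoeff b) d) := by
      intro d
      have h := congrFun ((hΦ w hw.2).symm.trans hv0) d
      rw [Pi.zero_apply, show (0 : Res M) = red M 0 from (red_eq_zero memLocalIdeal_zero).symm,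
        red_eq_iff ((isIntClassFun_conv hpw hbI).2 d) (localRing M).zero_mem, sub_zero] at h
      exact h
    have h1 : MemLocalIdeal M
        (conv (conv (pullFun (C[P]).subtype w) (pullFun (C[P]).subtype c)) (blockCoeff b) c₀) := by
      rw [conv_assoc, conv_comm_of_isClassFunction (blockCoeff b) hpc.1, ← conv_assoc, conv_apply]
      exact memLocalIdeal_sum fun y _ => memLocalIdeal_mul_right (hwb y) (hpc.2 _)
    have h2 := conv_congr_left (M := M) (a := conv (pullFun (C[P]).subtype w) (pullFun (C[P]).subtype c))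
      (a' := fun d => u * pullFun (C[P]).subtype (invFun' (χ : G → ℂ)) d) (b := blockCoeff b)
      (fun d => by
        have e := memLocalIdeal_sub (hrel ((C[P]).subtype d))
          (conv_pull_sub hM hPp hι (isBrFun_of_intClassFun hw) (isBrFun_of_intClassFun hc) d)
        rwa [sub_sub_sub_cancel_left] at e) hbI.2 c₀
    have h3 : MemLocalIdeal M (conv (fun d => u * pullFun (C[P]).subtype (invFun' (χ : G → ℂ)) d)
        (blockCoeff b) c₀) := by
      have e := memLocalIdeal_sub h1 h2
      rwa [sub_sub_cancel] at e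
    rw [show conv (fun d => u * pullFun (C[P]).subtype (invFun' (χ : G → ℂ)) d) (blockCoeff b) c₀ =
        u * conv (pullFun (C[P]).subtype (invFun' (χ : G → ℂ))) (blockCoeff b) c₀ by
      simp only [conv_apply, Finset.mul_sum, mul_assoc]] at h3
    exact (memLocalIdeal_mem_or_mem hu
      ((isIntClassFun_conv (isIntClassFun_pullFun hι (isBrFun_of_intClassFun hFI)) hbI).2 c₀)
      h3).elim hu' hc₀
  -- the range is the centre of the block of the centralizer
  let ι' := {a : C[P] → ℂ // IsIntClassFun M a}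
  let E : ι' → C[P] → ℂ := fun a => conv a.1 (blockCoeff b)
  have hEint : ∀ a d, MemLocalRing M (E a d) := fun a d => (isIntClassFun_conv a.2 hbI).2 d
  haveI : Finite (IrrCharacter C[P]) := finite_irr
  haveI : Fintype b := Fintype.ofFinite b
  let W : Submodule ℂ (C[P] → ℂ) :=
    Submodule.span ℂ (Set.range fun θ : b => fun d : C[P] => ((θ : IrrCharacter C[P]) : C[P] → ℂ) d⁻¹)
  have hEW : ∀ a, E a ∈ W := by
    intro a
    let f : C[P] → ℂ := fun d => E a d⁻¹
    have hcf : IsClassFunction C[P] f := fun d t => by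
      show E a (t * d * t⁻¹)⁻¹ = E a d⁻¹
      rw [show (t * d * t⁻¹)⁻¹ = t * d⁻¹ * t⁻¹ by group]
      exact (isIntClassFun_conv a.2 hbI).1 _ _
    have hE : E a = ∑ θ : IrrCharacter C[P],
        classInner f (θ : C[P] → ℂ) • fun d : C[P] => (θ : C[P] → ℂ) d⁻¹ := by
      funext d
      have h := congrFun (CharCore.eq_sum_classInner hcf) d⁻¹
      simp only [f, inv_inv] at h
      rw [Finset.sum_apply] at h ⊢
      exact h
    rw [hE]
    refine Submodule.sum_mem _ fun θ _ => ?_
    by_cases hθ : θ ∈ b
    · exact Submodule.smul_mem _ _ (Submodule.subset_span ⟨⟨θ, hθ⟩, rfl⟩)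
    · have h1 : omega (θ : C[P] → ℂ) (E a) = 0 := by
        rw [omega_conv θ a.2.1 hbI.1, omega_blockCoeff, Set.indicator_of_notMem hθ, mul_zero]
      rw [omega_eq_sum, div_eq_zero_iff, or_iff_left (irr_one_ne_zero θ)] at h1
      have h2 : classInner f (θ : C[P] → ℂ) = 0 := by
        rw [classInner, mul_eq_zero]
        right
        rw [← h1]
        exact Fintype.sum_equiv (Equiv.inv C[P]) _ _ fun h => by
          simp only [f, Equiv.inv_apply, conj_irr]
      rw [h2, zero_smul]
      exact W.zero_mem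
  set S := Submodule.span (Res M) (Set.range fun a d => red M (E a d)) with hSdef
  have hSle : Module.finrank (Res M) S ≤ Nat.card P := by
    refine ((BlockAlg8.finrank_span_red_le E hEint W hEW).trans ?_).trans hcardb
    rw [Nat.card_eq_fintype_card]
    exact finrank_range_le_card _
  set T := LinearMap.range (Φ.domRestrict (centreSpace M B)) with hTdef
  have hTS : T ≤ S := by
    rintro _ ⟨⟨v, hv⟩, rfl⟩
    obtain ⟨a, ha, rfl⟩ := mem_centreSpace hM hB hv
    have hw : IsIntClassFun M (conv (blockCoeff B) a) :=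
      isIntClassFun_conv (isIntClassFun_blockCoeff hM hB) ha
    refine Submodule.subset_span
      ⟨⟨_, isIntClassFun_pullFun hι (isBrFun_of_intClassFun hw)⟩, ?_⟩
    exact (hΦ _ hw.2).symm
  have hTeq : T = S := Submodule.eq_of_le_of_finrank_le hTS (by
    rw [hTdef, LinearMap.finrank_range_of_inj hinj]
    exact hSle.trans hdim)
  -- conjugation by `x`
  obtain ⟨hxC, hxinv⟩ := (stabilizesBlock_iff b x).mp hxb
  have hconj : ∀ d : C[P], x * (d : G) * x⁻¹ ∈ C[P] := fun d =>
    (Subgroup.mem_normalizer_iff.mp hxC (d : G)).mp d.2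
  let σ : C[P] → C[P] := fun d => ⟨x * (d : G) * x⁻¹, hconj d⟩
  have hσmul : ∀ d d', σ d * σ d' = σ (d * d') := fun d d' => Subtype.ext (by
    show x * (d : G) * x⁻¹ * (x * (d' : G) * x⁻¹) = x * ((d : G) * (d' : G)) * x⁻¹
    group)
  have hσinj : Function.Injective σ := fun d d' h => Subtype.ext
    (mul_left_cancel (mul_right_cancel (congrArg Subtype.val h)))
  have hσinv : ∀ d, (σ d)⁻¹ = σ d⁻¹ := fun d => Subtype.ext (by
    show (x * (d : G) * x⁻¹)⁻¹ = x * ((d⁻¹ : C[P]) : G) * x⁻¹
    rw [Subgroup.coe_inv]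
    group)
  have hσb : ∀ d, blockCoeff b (σ d) = blockCoeff b d := by
    intro d
    rw [← subgroupBlockCoeff_coe C[P] b (σ d), ← subgroupBlockCoeff_coe C[P] b d]
    have h := hxinv (x * (d : G) * x⁻¹)
    rw [show x⁻¹ * (x * (d : G) * x⁻¹) * x = (d : G) by group] at h
    exact h.symm
  have hfix : ∀ v ∈ S, ∀ d, v (σ d) = v d := by
    rw [← hTeq]
    rintro _ ⟨⟨v, hv⟩, rfl⟩ d
    obtain ⟨a, ha, rfl⟩ := mem_centreSpace hM hB hv
    have hw : IsIntClassFun M (conv (blockCoeff B) a) :=
      isIntClassFun_conv (isIntClassFun_blockCoeff hM hB) ha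
    show Φ (fun y => red M (conv (blockCoeff B) a y)) (σ d) =
      Φ (fun y => red M (conv (blockCoeff B) a y)) d
    rw [hΦ _ hw.2]
    show red M _ = red M _
    congr 1
    rw [conv_apply, conv_apply]
    refine (Fintype.sum_equiv (Equiv.ofBijective σ (Finite.injective_iff_bijective.mp hσinj))
      _ _ fun y => ?_).symm
    rw [Equiv.ofBijective_apply, hσinv, hσmul, hσb, pullFun_apply, pullFun_apply]
    congr 1
    exact (hw.1 (y : G) x).symm
  -- translates by elements of `P`
  obtain ⟨y₀, hy₀, -⟩ := isDefectGroup_iff.mp hfc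
  have hy₀r := defectClass_regular hM hb hy₀
  refine Subgroup.mem_centralizer_iff.mpr fun u hu => ?_
  by_contra hne
  let uC : C[P] := ⟨u, hPC hu⟩
  have huz : uC ∈ Subgroup.center C[P] := hcentral hu
  have htr : ∀ d, conv (classInd uC) (blockCoeff b) d = blockCoeff b (uC⁻¹ * d) := by
    intro d
    rw [conv_apply, Finset.sum_eq_single uC]
    · rw [classInd_apply_of_isConj (IsConj.refl _), one_mul]
    · intro y _ hy
      rw [classInd_apply_of_not_isConj, zero_mul]
      intro h
      obtain ⟨t, ht⟩ := isConj_iff.mp h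
      exact hy (by rw [← ht, Subgroup.mem_center_iff.mp huz t, mul_inv_cancel_right])
    · exact fun h => absurd (Finset.mem_univ _) h
  have hkey := hfix _ (Submodule.subset_span ⟨⟨classInd uC, isIntClassFun_classInd uC⟩, rfl⟩)
    (uC * y₀)
  simp only [E, htr] at hkey
  rw [inv_mul_cancel_left] at hkey
  have hu' : x⁻¹ * u * x ∈ P := by
    have := (Subgroup.mem_normalizer_iff''.mp hxN u).mp hu
    simpa using this
  let vC : C[P] := ⟨x⁻¹ * u * x, hPC hu'⟩
  have hσv : σ vC = uC := Subtype.ext (by
    show x * (x⁻¹ * u * x) * x⁻¹ = u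
    group)
  rw [← hσv, hσinv, hσmul, hσb, hσv, ← mul_assoc] at hkey
  set w := vC⁻¹ * uC with hw
  have hwP : (w : G) ∈ P := P.mul_mem (P.inv_mem hu') hu
  have hw1 : w ≠ 1 := by
    intro h
    have h' : x⁻¹ * u * x = u := congrArg Subtype.val (inv_mul_eq_one.mp h)
    refine hne ?_
    calc u * x = x * (x⁻¹ * u * x) := by group
      _ = x * u := by rw [h']
  obtain ⟨k, hk⟩ := IsPGroup.iff_orderOf.mp hPp ⟨(w : G), hwP⟩
  rw [Subgroup.orderOf_mk, Subgroup.orderOf_coe] at hk
  have hcop : (orderOf w).Coprime (orderOf y₀) := by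
    rw [hk]
    exact Nat.Coprime.pow_left _ (hM.1.coprime_iff_not_dvd.mpr hy₀r)
  have hcomm : Commute w y₀ := (Subgroup.mem_center_iff.mp (hcentral hwP) y₀).symm
  have hd : p ∣ orderOf (w * y₀) := by
    rw [hcomm.orderOf_mul_eq_mul_orderOf_of_coprime hcop, hk]
    refine dvd_mul_of_dvd_left (dvd_pow_self p ?_) _
    rintro rfl
    exact hw1 (orderOf_eq_one_iff.mp hk)
  rw [blockCoeff_eq_zero_of_dvd_orderOf hM hb hd] at hkey
  refine hy₀.2.1 ?_
  rw [← sub_zero (blockCoeff b y₀), ← red_eq_iff (hbI.2 _) (localRing M).zero_mem]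
  exact hkey.symm

end Cfsg.Agent.BC87.EqAb
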