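import Cfsg.Agent.Lib.BlocksDefect.Kulshammer

/-!
# The centre of a block algebra over the residue field, as a space of functions
-/

set_option autoImplicit false

namespace Cfsg.Agent.BC87.EqAb

open BlocksCore BlocksDefect

variable {G : Type*} [Group G] [Fintype G]

/-- The centre of the block algebra over the residue field, as functions on the group. -/
noncomputable def centreSpace (M : Ideal AlgInt) [M.IsPrime] (B : Set (IrrCharacter G)) :
    Submodule (Res M) (G → Res M) :=
  Submodule.span (Res M) {v | ∃ a : G → ℂ, IsIntClassFun M a ∧
    v = fun x => red M (conv (blockCoeff B) a x)}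

/-- `χ` at the inverse. -/
def invFun' (χ : G → ℂ) : G → ℂ := fun x => χ x⁻¹

end Cfsg.Agent.BC87.EqAb
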