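import Cfsg.Agent.BC87.EqAb.Algebra
import Cfsg.Agent.BC87.EqAb.Defs
import Cfsg.Agent.BlockAlg8.TwoChar

/-!
# A block satisfies the identities of the matrices of its largest degree; its dimension
-/

set_option autoImplicit false

namespace Cfsg.Agent.BC87.EqAb

open BlocksCore BlocksDefect MonoidAlgebra BlockAlg8

variable {G : Type*} [Group G] [Fintype G] {p : ℕ} {M : Ideal AlgInt}

/-- The block algebra satisfies the Capelli identity of the matrix algebras of its degrees. -/
theorem capelli_block [M.IsPrime] (hM : IsPModular p M) {B : Set (IrrCharacter G)}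
    (hB : IsPBlock M B) {d m : ℕ} (hd : ∀ χ ∈ B, charDegree ((χ : IrrCharacter G) : G → ℂ) = d)
    (hm : d * d < m) (x y : Fin m → MonoidAlgebra (Res M) G) :
    toAlg M (blockCoeff B) * capelli x y = 0 := by
  classical
  have := finite_irr (G := G)
  have := Fintype.ofFinite (IrrCharacter G)
  have heI : IsIntClassFun M (blockCoeff B) := isIntClassFun_blockCoeff hM hB
  let q : MonoidAlgebra (localRing M) G →+* MonoidAlgebra (Res M) G :=
    MonoidAlgebra.mapRingHom G (Ideal.Quotient.mk (localIdeal M))
  have hqs : ∀ g r, q (single g r) = single g (Ideal.Quotient.mk (localIdeal M) r) :=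
    fun g r => by simp [q]
  have hsurj : Function.Surjective q := by
    intro z
    induction z using MonoidAlgebra.induction_linear with
    | zero => exact ⟨0, map_zero q⟩
    | add a b ha hb =>
      obtain ⟨a', rfl⟩ := ha
      obtain ⟨b', rfl⟩ := hb
      exact ⟨a' + b', map_add q a' b'⟩
    | single g c =>
      obtain ⟨r, rfl⟩ := Ideal.Quotient.mk_surjective c
      exact ⟨single g r, hqs g r⟩
  choose X hX using fun k => hsurj (x k)
  choose Y hY using fun k => hsurj (y k)
  let E : MonoidAlgebra (localRing M) G := ∑ g, single g ⟨blockCoeff B g, heI.2 g⟩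
  have hE : q E = toAlg M (blockCoeff B) := by
    simp only [E, map_sum, hqs, toAlg]
    refine Finset.sum_congr rfl fun g _ => ?_
    rw [red_of_mem (heI.2 g), MonoidAlgebra.of_apply, MonoidAlgebra.smul_single, smul_eq_mul,
      mul_one]
  have hxy : q (capelli X Y) = capelli x y := by
    rw [capelli_map]
    simp only [Function.comp_def, hX, hY]
  suffices hZ : E * capelli X Y = 0 by
    rw [← hE, ← hxy, ← map_mul, hZ, map_zero]
  set Z := E * capelli X Y with hZdef
  -- the value in every irreducible representation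
  have key : ∀ χ : IrrCharacter G, ∀ h : G,
      ∑ g, ((Z.coeff g : localRing M) : ℂ) * (χ : G → ℂ) (g * h) = 0 := by
    rintro ⟨f, n, ρ, hρ, rfl⟩ h
    have := hρ
    let τ : G →* Matrix (Fin n) (Fin n) ℂ :=
      (LinearMap.toMatrixAlgEquiv' (R := ℂ) (n := Fin n)).toMonoidHom.comp ρ
    let R : MonoidAlgebra (localRing M) G →+* Matrix (Fin n) (Fin n) ℂ :=
      MonoidAlgebra.liftNCRingHom ((Matrix.scalar (Fin n)).comp (localRing M).subtype) τ
        (fun r g => by
          show Commute ((Matrix.scalar (Fin n)) (r : ℂ)) (τ g)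
          exact Matrix.scalar_commute _ (fun r' => Commute.all _ r') _)
    have hRs : ∀ g r, R (single g r) = (r : ℂ) • τ g := fun g r => by
      show MonoidAlgebra.liftNC _ _ _ = _
      rw [MonoidAlgebra.liftNC_single]
      show Matrix.scalar (Fin n) (r : ℂ) * τ g = _
      rw [Matrix.scalar_apply, ← Matrix.smul_one_eq_diagonal, smul_mul_assoc, one_mul]
    have hdeg : charDegree ρ.character = n := by simp [charDegree]
    have hR0 : R Z = 0 := by
      rw [hZdef, map_mul]
      by_cases hχ : (⟨ρ.character, n, ρ, hρ, rfl⟩ : IrrCharacter G) ∈ B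
      · have hn : n = d := hdeg.symm.trans (hd _ hχ)
        rw [capelli_map, capelli_matrix (hn ▸ hm), mul_zero]
      · have h1 := sum_smul_eq_omega_smul ρ (isClassFunction_blockCoeff B)
        rw [show omega ρ.character (blockCoeff B) =
          omega ((⟨ρ.character, n, ρ, hρ, rfl⟩ : IrrCharacter G) : G → ℂ) (blockCoeff B) from rfl,
          omega_blockCoeff, Set.indicator_of_notMem hχ, zero_smul] at h1
        have h2 : R E = LinearMap.toMatrixAlgEquiv' (∑ g, blockCoeff B g • ρ g) := by
          simp only [E, map_sum, hRs, map_smul]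
          rfl
        rw [h2, h1, map_zero, zero_mul]
    have h2 : R (Z * single h 1) = 0 := by rw [map_mul, hR0, zero_mul]
    have h3 : Z * single h 1 = ∑ g, single (g * h) (Z.coeff g) := by
      apply MonoidAlgebra.ext
      refine Finsupp.ext fun t => ?_
      rw [coeff_mul_single_apply, coeff_sum, Finsupp.finsetSum_apply, mul_one,
        Finset.sum_eq_single (t * h⁻¹)]
      · rw [coeff_single, inv_mul_cancel_right, Finsupp.single_eq_same]
      · intro g _ hg
        rw [coeff_single, Finsupp.single_eq_of_ne]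
        rintro rfl
        simp at hg
      · exact fun h => absurd (Finset.mem_univ _) h
    have h4 := congrArg Matrix.trace h2
    rw [h3, map_sum, Matrix.trace_zero, Matrix.trace_sum] at h4
    refine Eq.trans (Finset.sum_congr rfl fun g _ => ?_) h4
    rw [hRs, Matrix.trace_smul, smul_eq_mul]
    congr 1
    show LinearMap.trace ℂ _ (ρ (g * h)) = _
    rw [LinearMap.trace_eq_matrix_trace ℂ (Pi.basisFun ℂ (Fin n))]
    rfl
  apply MonoidAlgebra.ext
  refine Finsupp.ext fun t => ?_
  rw [coeff_zero, Finsupp.zero_apply]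
  apply Subtype.ext
  rw [ZeroMemClass.coe_zero]
  have hsum : ∑ χ : IrrCharacter G, (χ : G → ℂ) 1 *
      ∑ g, ((Z.coeff g : localRing M) : ℂ) * (χ : G → ℂ) (g * t⁻¹) = 0 :=
    Finset.sum_eq_zero fun χ _ => by rw [key χ t⁻¹, mul_zero]
  simp only [Finset.mul_sum] at hsum
  rw [Finset.sum_comm, Finset.sum_eq_single t] at hsum
  · simp only [mul_inv_cancel] at hsum
    simp only [← mul_assoc, mul_comm ((_ : IrrCharacter G) : G → ℂ) _] at hsum
    have h1 : ∑ χ : IrrCharacter G, (χ : G → ℂ) 1 * (χ : G → ℂ) 1 ≠ 0 := by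
      have h := sum_irr_mul_inv (1 : G) (1 : G)
      rw [if_pos (IsConj.refl 1)] at h
      simp only [inv_one] at h
      rw [h]
      exact_mod_cast Nat.card_pos.ne'
    have h2 : ((Z.coeff t : localRing M) : ℂ) * ∑ χ : IrrCharacter G, (χ : G → ℂ) 1 * (χ : G → ℂ) 1 = 0 := by
      rw [Finset.mul_sum, ← hsum]
      exact Finset.sum_congr rfl fun χ _ => by ring
    exact (mul_eq_zero.mp h2).resolve_right h1
  · intro g _ hg
    have h := sum_irr_mul_inv (g * t⁻¹) (1 : G)
    rw [if_neg] at h
    · simp only [inv_one] at h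
      calc _ = ((Z.coeff g : localRing M) : ℂ) *
          ∑ χ : IrrCharacter G, (χ : G → ℂ) (g * t⁻¹) * (χ : G → ℂ) 1 := by
            rw [Finset.mul_sum]
            exact Finset.sum_congr rfl fun χ _ => by ring
        _ = 0 := by rw [h, mul_zero]
    · intro hc
      exact hg (mul_inv_eq_one.mp (isConj_one_left.mp hc))
  · exact fun h => absurd (Finset.mem_univ _) h

/-- The dimension of the block algebra. -/
theorem finrank_block [M.IsPrime] [M.IsMaximal] (hM : IsPModular p M) {B : Set (IrrCharacter G)}
    (hB : IsPBlock M B) {d : ℕ} (hd : ∀ χ ∈ B, charDegree ((χ : IrrCharacter G) : G → ℂ) = d) :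
    Module.finrank (Res M)
      (LinearMap.range (LinearMap.mulLeft (Res M) (toAlg M (blockCoeff B)))) =
        Nat.card B * (d * d) := by
  classical
  have := finite_irr (G := G)
  have := Fintype.ofFinite (IrrCharacter G)
  have heI : IsIntClassFun M (blockCoeff B) := isIntClassFun_blockCoeff hM hB
  let A := MonoidAlgebra (Res M) G
  apply Nat.cast_injective (R := ℂ)
  let Φ : A ≃ₗ[Res M] (G → Res M) :=
    (coeffLinearEquiv (Res M)).trans (Finsupp.linearEquivFunOnFinite (Res M) (Res M) G)
  let E : G → G → ℂ := fun x y => blockCoeff B (x * y⁻¹)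
  have hidem : ∀ x z, ∑ y, E x y * E y z = E x z := fun x z => by
    have h := congrFun (conv_blockCoeff_self (G := G) B) (x * z⁻¹)
    rw [conv_apply] at h
    show _ = blockCoeff B (x * z⁻¹)
    rw [← h]
    refine Fintype.sum_equiv ((Equiv.inv G).trans (Equiv.mulLeft x)) _ _ fun y => ?_
    simp only [Equiv.trans_apply, Equiv.inv_apply, Equiv.coe_mulLeft, E]
    congr 2
    group
  have hE := finrank_range_red (fun x y => heI.2 (x * y⁻¹)) hidem
  have hconj : (Matrix.toLin' (Matrix.of fun x y => red M (E x y))).comp Φ.toLinearMap =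
      Φ.toLinearMap.comp (LinearMap.mulLeft (Res M) (toAlg M (blockCoeff B))) := by
    refine LinearMap.ext fun z => funext fun x => ?_
    simp only [LinearMap.comp_apply, Matrix.toLin'_apply, Matrix.mulVec, dotProduct,
      LinearMap.mulLeft_apply, LinearEquiv.coe_coe]
    show ∑ y, red M (E x y) * z.coeff y = (toAlg M (blockCoeff B) * z).coeff x
    rw [coeff_mul_eq]
    refine Fintype.sum_equiv ((Equiv.inv G).trans (Equiv.mulLeft x)) _ _ fun y => ?_
    simp only [Equiv.trans_apply, Equiv.inv_apply, Equiv.coe_mulLeft, coeff_toAlg, E]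
    congr 2
    group
  have hr : LinearMap.range (Matrix.toLin' (Matrix.of fun x y => red M (E x y))) =
      (LinearMap.range (LinearMap.mulLeft (Res M) (toAlg M (blockCoeff B)))).map Φ.toLinearMap := by
    rw [← LinearMap.range_comp, ← hconj, LinearMap.range_comp_of_range_eq_top]
    exact LinearEquiv.range Φ
  rw [hr, LinearEquiv.finrank_map_eq] at hE
  rw [hE]
  simp only [mul_inv_cancel, Finset.sum_const, Finset.card_univ, nsmul_eq_mul,
    blockCoeff, ← Nat.card_eq_fintype_card]
  rw [mul_inv_cancel_left₀ (Nat.cast_ne_zero.mpr Nat.card_pos.ne'), finsum_mem_eq_toFinset_sum,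
    Finset.sum_congr rfl (fun χ (hχ : χ ∈ B.toFinset) => by
      rw [irr_one_eq, Complex.conj_natCast, hd χ (Set.mem_toFinset.mp hχ)]),
    Finset.sum_const, Set.toFinset_card, Nat.card_eq_fintype_card, nsmul_eq_mul]
  push_cast
  ring

end Cfsg.Agent.BC87.EqAb
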