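import Cfsg.Agent.BC87.EqAb.Defs
import Cfsg.Agent.Lib.ModRep.DegreeSum
import Cfsg.Agent.Lib.ModRep.Cartan
import Cfsg.Agent.Lib.ModRep.Integral
import Cfsg.Agent.BlockAlg8.TwoChar
import Cfsg.Agent.S4675

/-!
# Blocks whose characters all have one degree of height zero: the Brauer character

Such a block has one irreducible Brauer character, of that degree, and every character of the
block restricts to it.
-/

set_option autoImplicit false

namespace Cfsg.Agent.BC87.EqAb

open BlocksCore BlocksDefect MonoidAlgebra ModRep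

universe u

variable {G : Type u} [Group G] [Fintype G] {p : ℕ} [Fact p.Prime] {M : Ideal AlgInt} [M.IsPrime]
  {B : Set (IrrCharacter G)} {d : ℕ}

/-- All characters of the block restrict to one irreducible Brauer character of degree `d`. -/
theorem exists_brauer (D : BrauerData p M G) (hM : IsPModular p M) (hB : IsPBlock M B)
    (hd : ∀ χ ∈ B, charDegree ((χ : IrrCharacter G) : G → ℂ) = d)
    (_h0 : ∀ χ ∈ B, blockHeight p B ((χ : IrrCharacter G) : G → ℂ) = 0) :
    ∃ i, D.blk i = B ∧ D.deg i = d ∧ (∀ j, D.blk j = B → j = i) ∧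
      ∀ χ ∈ B, D.dec χ i = 1 ∧ ∀ j, j ≠ i → D.dec χ j = 0 := by
  classical
  have := finite_irr (G := G)
  have := Fintype.ofFinite (IrrCharacter G)
  have hpr : p.Prime := Fact.out
  obtain ⟨χ₀, hχ₀⟩ := isPBlock_nonempty hB
  have hd0 : 0 < d := hd χ₀ hχ₀ ▸ charDegree_pos χ₀
  -- each character is a single Brauer character
  have hone : ∀ χ ∈ B, ∀ j, D.dec χ j ≠ 0 →
      D.dec χ j = 1 ∧ D.deg j = d ∧ ∀ k, k ≠ j → D.dec χ k = 0 := by
    intro χ hχ j hj
    have hblk := D.blk_eq_of_dec hj hB hχ
    have hle : d ≤ D.deg j :=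
      Nat.le_of_dvd (D.deg_pos j) (D.dvd_deg hM j fun θ hθ => (hd θ (hblk ▸ hθ)).symm ▸ dvd_rfl)
    have hsum := D.degree_eq hM χ
    rw [hd χ hχ, ← Finset.add_sum_erase _ _ (Finset.mem_univ j)] at hsum
    have h1 : D.deg j ≤ D.dec χ j * D.deg j := Nat.le_mul_of_pos_left _ (Nat.pos_of_ne_zero hj)
    have hR : ∑ k ∈ Finset.univ.erase j, D.dec χ k * D.deg k = 0 := by omega
    have h2 : D.dec χ j * D.deg j = 1 * D.deg j := by omega
    refine ⟨Nat.eq_of_mul_eq_mul_right (D.deg_pos j) h2, by omega, fun k hk => ?_⟩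
    exact (mul_eq_zero.mp (Finset.sum_eq_zero_iff.mp hR k
      (Finset.mem_erase.mpr ⟨hk, Finset.mem_univ k⟩))).resolve_right (D.deg_pos k).ne'
  have hex : ∃ i, D.dec χ₀ i ≠ 0 := by
    by_contra h
    push Not at h
    have hsum := D.degree_eq hM χ₀
    simp only [h, zero_mul, Finset.sum_const_zero] at hsum
    rw [hd χ₀ hχ₀] at hsum
    omega
  obtain ⟨i, hi⟩ := hex
  have hiB := D.blk_eq_of_dec hi hB hχ₀
  -- the Cartan matrix is diagonal
  have hoffd : ∀ a b : Fin D.l, D.blk a = B → a ≠ b → D.cartan a b = 0 := by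
    intro a b ha hab
    rw [D.cartan_eq]
    refine Finset.sum_eq_zero fun χ _ => ?_
    by_cases h : D.dec χ a = 0
    · rw [h, zero_mul]
    · rw [(hone χ (ha ▸ D.mem_blk χ a h) a h).2.2 b hab.symm, mul_zero]
  have hpair : ∀ a b : Fin D.l, D.blk a = B →
      (D.cartan a a : ℂ) * D.pair a b = if a = b then 1 else 0 := by
    intro a b ha
    rw [← D.cartan_mul_pair hM a b, Fintype.sum_eq_single a]
    intro k hk
    rw [hoffd a k ha (Ne.symm hk), Nat.cast_zero, zero_mul]
  -- the diagonal entries have the full defect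
  have hdef : blockDefect p B = (Nat.card G).factorization p - d.factorization p := by
    rw [blockDefect]
    congr 1
    have himg : (fun χ : IrrCharacter G => (charDegree (χ : G → ℂ)).factorization p) '' B =
        {d.factorization p} := by
      ext m
      constructor
      · rintro ⟨χ, hχ, rfl⟩
        simp [hd χ hχ]
      · rintro rfl
        exact ⟨χ₀, hχ₀, by simp [hd χ₀ hχ₀]⟩
    rw [himg]
    exact csInf_singleton _
  have hdiv : ∀ a : Fin D.l, D.blk a = B → p ^ blockDefect p B ∣ D.cartan a a := by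
    intro a ha
    obtain ⟨P⟩ := (inferInstance : Nonempty (Sylow p G))
    obtain ⟨m, hm⟩ := D.card_dvd_proj_one hM a P.2
    have hone' : D.proj a 1 = ((D.cartan a a * d : ℕ) : ℂ) := by
      rw [D.proj_eq, D.cartan_eq, Finset.sum_mul, Nat.cast_sum]
      refine Finset.sum_congr rfl fun χ _ => ?_
      by_cases h : D.dec χ a = 0
      · simp [h]
      · have hχB := ha ▸ D.mem_blk χ a h
        rw [(hone χ hχB a h).1, irr_one_eq, hd χ hχB]
        simp
    have heq : D.cartan a a * d = m * Nat.card (P : Subgroup G) := by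
      have := hone'.symm.trans hm
      exact_mod_cast this
    have hca : D.cartan a a ≠ 0 := (D.cartan_self_pos hM a).ne'
    rw [hpr.pow_dvd_iff_le_factorization hca]
    have h1 : p ^ (Nat.card G).factorization p ∣ D.cartan a a * d :=
      heq ▸ P.card_eq_multiplicity ▸ dvd_mul_left _ _
    rw [hpr.pow_dvd_iff_le_factorization (Nat.mul_ne_zero hca hd0.ne'),
      Nat.factorization_mul hca hd0.ne', Finsupp.add_apply] at h1
    omega
  obtain ⟨uu, vv, huu, hvv, hrank, -⟩ := D.scaled_pair_rank_one hM hB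
  have hunit : ∀ a : Fin D.l, D.blk a = B →
      ¬ MemLocalIdeal M ((p : ℂ) ^ blockDefect p B * D.pair a a) := by
    intro a ha hbad
    obtain ⟨m, hm⟩ := hdiv a ha
    have h1 := hpair a a ha
    rw [if_pos rfl, hm, Nat.cast_mul, Nat.cast_pow] at h1
    have h2 := memLocalIdeal_mul_right hbad (memLocalRing_natCast (M := M) m)
    rw [show (p : ℂ) ^ blockDefect p B * D.pair a a * (m : ℂ) =
      ((1 : ℕ) : ℂ) by push_cast; linear_combination h1] at h2
    exact hpr.ne_one (Nat.dvd_one.mp ((memLocalIdeal_natCast_iff hM 1).mp h2))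
  have huniq : ∀ j, D.blk j = B → j = i := by
    intro j hj
    by_contra hji
    have hzero : D.pair i j = 0 := by
      have h := hpair i j hiB
      rw [if_neg (Ne.symm hji)] at h
      exact (mul_eq_zero.mp h).resolve_left (Nat.cast_ne_zero.mpr (D.cartan_self_pos hM i).ne')
    have hsub : ∀ {s t : ℂ}, MemLocalIdeal M (s - t) → MemLocalIdeal M t → MemLocalIdeal M s :=
      fun {s t} h1 h2 => by simpa using memLocalIdeal_add h1 h2
    have hprod : MemLocalIdeal M (uu i * vv j) := by
      have h := (hrank i j hiB hj).2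
      rw [hzero, mul_zero] at h
      simpa using memLocalIdeal_neg h
    rcases memLocalIdeal_mem_or_mem (huu i) (hvv j) hprod with h | h
    · exact hunit i hiB (hsub (hrank i i hiB hiB).2 (memLocalIdeal_mul_right h (hvv i)))
    · exact hunit j hj (hsub (hrank j j hj hj).2 (memLocalIdeal_mul_left (huu j) h))
  refine ⟨i, hiB, (hone χ₀ hχ₀ i hi).2.1, huniq, fun χ hχ => ?_⟩
  have : ∃ j, D.dec χ j ≠ 0 := by
    by_contra h
    push Not at h
    have hsum := D.degree_eq hM χ
    simp only [h, zero_mul, Finset.sum_const_zero] at hsum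
    rw [hd χ hχ] at hsum
    omega
  obtain ⟨j, hj⟩ := this
  obtain rfl := huniq j (D.blk_eq_of_dec hj hB hχ)
  exact ⟨(hone χ hχ j hj).1, (hone χ hχ j hj).2.2⟩

/-- There are as many characters as elements of the defect group. -/
theorem card_eq (hM : IsPModular p M) (hB : IsPBlock M B) {P : Subgroup G}
    (hP : IsDefectGroup p M B P)
    (hd : ∀ χ ∈ B, charDegree ((χ : IrrCharacter G) : G → ℂ) = d)
    (h0 : ∀ χ ∈ B, blockHeight p B ((χ : IrrCharacter G) : G → ℂ) = 0) :
    Nat.card B = Nat.card P := by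
  classical
  have := finite_irr (G := G)
  have := Fintype.ofFinite (IrrCharacter G)
  obtain ⟨D⟩ := exists_brauerData (G := G) hM
  obtain ⟨i, hiB, hdeg, huniq, hdec⟩ := exists_brauer D hM hB hd h0
  have hl : blockRank p B = 1 := by
    rw [D.blockRank_eq hM hB, Finset.card_eq_one]
    exact ⟨i, Finset.ext fun j => by
      simp only [Finset.mem_filter, Finset.mem_univ, true_and, Finset.mem_singleton]
      exact ⟨huniq j, fun h => h ▸ hiB⟩⟩
  obtain ⟨φ, e, ⟨n, hn⟩, he, hsum⟩ := S4675.result p M hM B hB P hP hl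
  have h1reg : IsPRegular p (1 : G) := by
    unfold IsPRegular
    rw [orderOf_one]
    exact hM.1.not_dvd_one
  have hφ := hn 1 h1reg
  rw [finsum_mem_eq_toFinset_sum] at hφ
  have hone : ∀ χ ∈ B, (e χ : ℂ) * φ 1 = (d : ℂ) := fun χ hχ => by
    rw [← he χ hχ 1 h1reg, irr_one_eq, hd χ hχ]
  set N : ℤ := ∑ ψ ∈ B.toFinset, n ψ with hN
  have hφ' : φ 1 = (N : ℂ) * (d : ℂ) := by
    rw [hφ, hN, Int.cast_sum, Finset.sum_mul]
    refine Finset.sum_congr rfl fun ψ hψ => ?_
    rw [irr_one_eq, hd ψ (Set.mem_toFinset.mp hψ)]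
  have he1 : ∀ χ ∈ B, e χ = 1 := by
    intro χ hχ
    have hd0 : (d : ℂ) ≠ 0 := by
      rw [← hd χ hχ]
      exact Nat.cast_ne_zero.mpr (charDegree_pos χ).ne'
    have h := hone χ hχ
    rw [hφ'] at h
    have h' : (e χ : ℤ) * N = 1 := by
      have : ((e χ : ℂ) * (N : ℂ)) = 1 := mul_right_cancel₀ hd0 (by rw [one_mul]; linear_combination h)
      exact_mod_cast this
    rcases Int.eq_one_or_neg_one_of_mul_eq_one h' with h'' | h'' <;> omega
  rw [← hsum, finsum_mem_eq_toFinset_sum, Finset.sum_congr rfl fun χ hχ => by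
    rw [he1 χ (Set.mem_toFinset.mp hχ), one_pow], Finset.sum_const, smul_eq_mul, mul_one,
    Set.toFinset_card, Nat.card_eq_fintype_card]

/-- The block idempotent acts on the translates of a character. -/
theorem sum_blockCoeff_mul (B : Set (IrrCharacter G)) (θ : IrrCharacter G) (g : G) :
    ∑ x, blockCoeff B x * (θ : G → ℂ) (x * g) = B.indicator 1 θ * (θ : G → ℂ) g := by
  obtain ⟨n, ρ, hρ, hθ⟩ := θ.2
  have h := congrArg (fun A => LinearMap.trace ℂ (Fin n → ℂ) (A * ρ g))
    (sum_smul_eq_omega_smul ρ (isClassFunction_blockCoeff B))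
  simp only [Finset.sum_mul, map_sum, smul_mul_assoc, map_smul, one_mul, ← map_mul,
    smul_eq_mul] at h
  rw [show (θ : G → ℂ) = ρ.character from hθ.symm]
  refine h.trans ?_
  rw [hθ, omega_blockCoeff, ← congrFun hθ g]
  rfl

/-- A simple component of the block has trace proportional to a character and degree at least `d`. -/
theorem proj_facts (hM : IsPModular p M) (hB : IsPBlock M B)
    (hd : ∀ χ ∈ B, charDegree ((χ : IrrCharacter G) : G → ℂ) = d)
    (h0 : ∀ χ ∈ B, blockHeight p B ((χ : IrrCharacter G) : G → ℂ) = 0)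
    {n : ℕ} (π : MonoidAlgebra (Res M) G →ₐ[Res M] Matrix (Fin n) (Fin n) (Res M)) (hn : 0 < n)
    (hπs : Function.Surjective π) (hπe : π (toAlg M (blockCoeff B)) = 1)
    {χ : IrrCharacter G} (hχ : χ ∈ B) :
    d ≤ n ∧ ∃ a : Res M, ∀ g : G,
      (π (single g 1)).trace = a * red M ((χ : G → ℂ) g) := by
  classical
  have := hM.2.1
  have hp := hM.1
  have := charP_res (M := M) hM
  have := finite_irr (G := G)
  have := Fintype.ofFinite (IrrCharacter G)
  obtain ⟨D⟩ := exists_brauerData (G := G) hM
  obtain ⟨i, hiB, hdeg, huniq, hdec⟩ := exists_brauer D hM hB hd h0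
  have := D.isPlace.charP hM
  set ι := D.isPlace.iota with hι
  let R₀ : G →* Matrix (Fin n) (Fin n) (Res M) := π.toMonoidHom.comp (of (Res M) G)
  let R₁ : G →* Matrix (Fin n) (Fin n) (Kf D.place) := ι.mapMatrix.toMonoidHom.comp R₀
  have hR₀ : ∀ g, R₀ g = π (single g 1) := fun g => rfl
  obtain ⟨m, hm⟩ := D.combination n (matRep R₁)
  set t : G → Res M := fun g => (π (single g 1)).trace with ht
  have hloc : ∀ j x, MemLocalRing M (D.φ j x) := D.memLocalRing
  -- regular values
  have hreg : ∀ y, ¬ p ∣ orderOf y → t y = ∑ j, (m j : Res M) * red M (D.φ j y) := by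
    intro y hy
    obtain ⟨z, hz, hzr⟩ := residue_bchar hp (matRep R₁) hy
    have hv := congrFun hm y
    simp only [Finset.sum_apply, Pi.smul_apply, smul_eq_mul] at hv
    have hl : MemLocalRing M (∑ j, (m j : ℂ) * D.φ j y) :=
      memLocalRing_sum fun j _ => (localRing M).mul_mem (memLocalRing_natCast _) (hloc j y)
    have hsum : red M (∑ j, (m j : ℂ) * D.φ j y) = ∑ j, (m j : Res M) * red M (D.φ j y) := by
      rw [red_sum _ fun j => (localRing M).mul_mem (memLocalRing_natCast _) (hloc j y)]
      exact Finset.sum_congr rfl fun j _ => by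
        rw [red_mul (memLocalRing_natCast _) (hloc j y), red_natCast]
    rw [← hsum]
    refine ι.injective ?_
    rw [hι, D.isPlace.iota_red hl, show (⟨_, D.isPlace.mem_of_memLocalRing hl⟩ : D.place) = z from
      Subtype.ext (by rw [hz, hv]), hzr, matRep_apply, Matrix.trace_toLin'_eq]
    show ι (R₀ y).trace = _
    exact (AddMonoidHom.map_trace ι.toAddMonoidHom (R₀ y)).trans rfl
  have htp : ∀ x y : G, Commute x y → (∃ k, orderOf x = p ^ k) → t (x * y) = t y := by
    rintro x y hxy ⟨k, hx⟩
    have h := CyclicRank.trace_eq_regular (p := p) (matRep R₀) hxy hx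
    rw [matRep_apply, matRep_apply, Matrix.trace_toLin'_eq, Matrix.trace_toLin'_eq] at h
    exact h
  -- a combination of the irreducible characters
  choose ν hν0 hν using fun j => D.exists_int_dual hM j
  set N : IrrCharacter G → Res M := fun θ => ∑ j, (m j : Res M) * (ν j θ : Res M) with hNdef
  have hθloc : ∀ (θ : IrrCharacter G) x, MemLocalRing M ((θ : G → ℂ) x) := fun θ x =>
    memLocalRing_of_isIntegral (isIntegral_irr θ x)
  have hredint : ∀ z : ℤ, red M (z : ℂ) = (z : Res M) := fun z => by
    rw [show (z : ℂ) = (((z : localRing M)) : ℂ) by simp, red_coe, map_intCast]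
  have hintloc : ∀ z : ℤ, MemLocalRing M (z : ℂ) := fun z => intCast_mem (localRing M) z
  have hredθ : ∀ (θ : IrrCharacter G) x y, Commute x y → (∃ k, orderOf x = p ^ k) →
      ¬ p ∣ orderOf y → red M ((θ : G → ℂ) (x * y)) = red M ((θ : G → ℂ) y) := by
    rintro θ x y hxy ⟨k, hx⟩ hy
    exact (red_eq_iff (hθloc θ _) (hθloc θ _)).mpr (char_mul_sub_memLocalIdeal hM θ hxy hx hy)
  have hall : ∀ g, t g = ∑ θ, N θ * red M ((θ : G → ℂ) g) := by
    intro g
    obtain ⟨x, y, rfl, hxy, hx, hy⟩ := exists_pPart (p := p) hp g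
    rw [htp x y hxy hx, hreg y hy]
    have e : ∀ j, red M (D.φ j y) = ∑ θ, (ν j θ : Res M) * red M ((θ : G → ℂ) (x * y)) := by
      intro j
      rw [congrFun (hν j) y]
      simp only [Finset.sum_apply, Pi.smul_apply, smul_eq_mul, pRegularPart_of_not_dvd _ hy]
      rw [red_sum _ fun θ => (localRing M).mul_mem (hintloc _) (hθloc θ y)]
      exact Finset.sum_congr rfl fun θ _ => by
        rw [red_mul (hintloc _) (hθloc θ y), hredint, hredθ θ x y hxy hx hy]
    simp only [e, hNdef, Finset.mul_sum, Finset.sum_mul, mul_assoc]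
    exact Finset.sum_comm
  -- only the block contributes
  have he := isIntClassFun_blockCoeff hM hB
  have hcut : ∀ θ g, ∑ x, red M (blockCoeff B x) * red M ((θ : IrrCharacter G).1 (x * g)) =
      if θ ∈ B then red M ((θ : G → ℂ) g) else 0 := by
    intro θ g
    simp only [← red_mul (he.2 _) (hθloc θ _)]
    rw [← red_sum _ fun x => (localRing M).mul_mem (he.2 x) (hθloc θ _)]
    rw [sum_blockCoeff_mul B θ g]
    by_cases h : θ ∈ B
    · simp [h]
    · simp [h, red_eq_zero memLocalIdeal_zero]
  have hte : ∀ g, t g = ∑ x, red M (blockCoeff B x) * t (x * g) := by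
    intro g
    have h1 : π (toAlg M (blockCoeff B)) * π (single g 1) = π (single g 1) := by rw [hπe, one_mul]
    show (π (single g 1)).trace = _
    rw [← h1, toAlg]
    simp only [map_sum, map_smul, Finset.sum_mul, smul_mul_assoc, ← map_mul, of_apply,
      single_mul_single, mul_one, Matrix.trace_sum, Matrix.trace_smul, smul_eq_mul]
    rfl
  set a : Res M := ∑ θ ∈ Finset.univ.filter (· ∈ B), N θ with ha
  have hfin : ∀ g, t g = a * red M ((χ : G → ℂ) g) := by
    intro g
    rw [hte g]
    simp only [hall, Finset.mul_sum]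
    rw [Finset.sum_comm, ha, Finset.sum_mul, Finset.sum_filter]
    refine Finset.sum_congr rfl fun θ _ => ?_
    calc ∑ x, red M (blockCoeff B x) * (N θ * red M ((θ : G → ℂ) (x * g)))
        = N θ * ∑ x, red M (blockCoeff B x) * red M ((θ : G → ℂ) (x * g)) := by
          rw [Finset.mul_sum]
          exact Finset.sum_congr rfl fun x _ => by ring
      _ = _ := by
          rw [hcut θ g]
          split_ifs with h
          · congr 1
            obtain ⟨x, y, rfl, hxy, hx, hy⟩ := exists_pPart (p := p) hp g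
            rw [hredθ θ x y hxy hx hy, hredθ χ x y hxy hx hy, D.apply_regular θ hy,
              D.apply_regular χ hy]
            refine congrArg (red M) (Finset.sum_congr rfl fun j _ => ?_)
            rcases eq_or_ne j i with rfl | hj
            · rw [(hdec θ h).1, (hdec χ hχ).1]
            · rw [(hdec θ h).2 j hj, (hdec χ hχ).2 j hj]
          · rw [mul_zero]
  refine ⟨?_, a, fun g => hfin g⟩
  -- the trace is nonzero, so `φ i` is a constituent
  have hane : a ≠ 0 := by
    intro ha0
    obtain ⟨w, hw⟩ := hπs (Matrix.single ⟨0, hn⟩ ⟨0, hn⟩ 1)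
    have hzero : ∀ v : MonoidAlgebra (Res M) G, (π v).trace = 0 := by
      intro v
      induction v using MonoidAlgebra.induction_linear with
      | zero => simp
      | add f g hf hg => rw [map_add, Matrix.trace_add, hf, hg, add_zero]
      | single y c =>
        rw [show (single y c : MonoidAlgebra (Res M) G) = c • single y 1 by simp, map_smul,
          Matrix.trace_smul, show (π (single y 1)).trace = 0 by
            have h := hfin y
            rw [ha0, zero_mul] at h
            exact h, smul_zero]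
    have := hzero w
    rw [hw, Matrix.trace_single_eq_same] at this
    exact one_ne_zero this
  have hmi : m i ≠ 0 := by
    intro hm0
    have hlin : ∀ y, ¬ p ∣ orderOf y →
        ∑ j, ((m j : Res M) - if j = i then a else 0) * red M (D.φ j y) = 0 := by
      intro y hy
      simp only [sub_mul, Finset.sum_sub_distrib, ite_mul, zero_mul, Finset.sum_ite_eq',
        Finset.mem_univ, if_true]
      rw [← hreg y hy, hfin y, D.apply_regular χ hy, Fintype.sum_eq_single i fun j hj => by
        rw [(hdec χ hχ).2 j hj, Nat.cast_zero, zero_mul], (hdec χ hχ).1, Nat.cast_one, one_mul,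
        sub_self]
    have h2 := Fintype.linearIndependent_iff.mp D.red_linearIndependent
      (fun j => (m j : Res M) - if j = i then a else 0) (funext fun y => by
        simp only [Finset.sum_apply, Pi.smul_apply, smul_eq_mul, Pi.zero_apply]
        by_cases hy : p ∣ orderOf y
        · simp [D.apply_singular _ y hy, red_eq_zero memLocalIdeal_zero]
        · exact hlin y hy) i
    simp [hm0, hane] at h2
  have hn' : (n : ℕ) = ∑ j, m j * D.deg j := by
    have h := congrFun hm 1
    rw [bchar_one hp, Module.finrank_fintype_fun_eq_card, Fintype.card_fin] at h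
    simp only [Finset.sum_apply, Pi.smul_apply, smul_eq_mul, D.apply_one] at h
    exact_mod_cast h
  calc d = 1 * D.deg i := by rw [one_mul, hdeg]
    _ ≤ m i * D.deg i := Nat.mul_le_mul_right _ (Nat.pos_of_ne_zero hmi)
    _ ≤ ∑ j, m j * D.deg j :=
      Finset.single_le_sum (f := fun j => m j * D.deg j) (fun _ _ => Nat.zero_le _) (Finset.mem_univ i)
    _ = n := hn'.symm

end Cfsg.Agent.BC87.EqAb
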