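import Cfsg.Agent.BC87.EqAb.Socle
import Cfsg.Agent.BC87.EqAb.Brauer
import Cfsg.Agent.S4687

/-!
# Abelian defect, all heights zero, one degree: the block is nilpotent
-/

set_option autoImplicit false

namespace Cfsg.Agent.BC87.EqAb

open BlocksCore BlocksDefect

universe u

variable {G : Type u} [Group G] [Fintype G] {p : ℕ} [Fact p.Prime] {M : Ideal AlgInt}

theorem nilpotent_of_same_degree (hM : IsPModular p M) {B : Set (IrrCharacter G)}
    (hB : IsPBlock M B) {P : Subgroup G} (hP : IsDefectGroup p M B P)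
    (hab : ∀ x ∈ P, ∀ y ∈ P, x * y = y * x)
    (h0 : ∀ χ : IrrCharacter G, χ ∈ B → blockHeight p B (χ : G → ℂ) = 0) {d : ℕ}
    (hd : ∀ χ : IrrCharacter G, χ ∈ B → charDegree (χ : G → ℂ) = d) :
    IsNilpotentBlock p M B := by
  have := isPrime hM
  obtain ⟨χ, hχ⟩ := isPBlock_nonempty hB
  obtain ⟨hdim, hsoc⟩ := centre_facts hM hB hd h0 hχ
  have hk := card_eq hM hB hP hd h0
  obtain ⟨e, hmax, hin⟩ := inertia_trivial hM hB hP hab hχ (h0 χ hχ) (hk ▸ hdim) hsoc
  exact (Cfsg.Agent.S4687.result p M hM B P e hmax hab).mpr hin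

end Cfsg.Agent.BC87.EqAb
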