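import Cfsg.Agent.BC87.EqAb.Capelli
import Cfsg.Agent.BC87.EqAb.Char

/-!
# The centre of a block with characters of one degree: dimension and socle
-/

set_option autoImplicit false

namespace Cfsg.Agent.BC87.EqAb

open BlocksCore BlocksDefect MonoidAlgebra BlockAlg8

universe u

variable {G : Type u} [Group G] [Fintype G] {p : ℕ} [Fact p.Prime] {M : Ideal AlgInt}

theorem conv_blockCoeff_invFun {B : Set (IrrCharacter G)} {χ : IrrCharacter G} (hχ : χ ∈ B) :
    conv (blockCoeff B) (invFun' (χ : G → ℂ)) = invFun' (χ : G → ℂ) := by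
  have hF : IsClassFunction G (invFun' (χ : G → ℂ)) := fun g h => by
    show (χ : G → ℂ) (h * g * h⁻¹)⁻¹ = (χ : G → ℂ) g⁻¹
    rw [show (h * g * h⁻¹)⁻¹ = h * g⁻¹ * h⁻¹ by group, irr_class χ]
  refine eq_of_omega_eq (isClassFunction_conv (isClassFunction_blockCoeff B) hF) hF fun θ => ?_
  rw [omega_conv θ (isClassFunction_blockCoeff B) hF, omega_blockCoeff]
  by_cases hθ : θ ∈ B
  · simp [hθ]
  · rw [Set.indicator_of_notMem hθ, zero_mul, omega_eq_sum]
    symm
    rw [div_eq_zero_iff]
    left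
    classical
    have h := sum_char_mul_inv θ χ
    rw [if_neg (fun e : θ = χ => hθ (e ▸ hχ))] at h
    rw [← h]
    exact Finset.sum_congr rfl fun g _ => mul_comm _ _

theorem conv_invFun_eq {a : G → ℂ} (ha : IsClassFunction G a) (χ : IrrCharacter G) :
    conv (invFun' (χ : G → ℂ)) a = omega (χ : G → ℂ) a • invFun' (χ : G → ℂ) := by
  have hF : IsClassFunction G (invFun' (χ : G → ℂ)) := fun g h => by
    show (χ : G → ℂ) (h * g * h⁻¹)⁻¹ = (χ : G → ℂ) g⁻¹
    rw [show (h * g * h⁻¹)⁻¹ = h * g⁻¹ * h⁻¹ by group, irr_class χ]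
  refine eq_of_omega_eq (isClassFunction_conv hF ha)
    (fun g h => by simp [hF g h]) fun θ => ?_
  rw [omega_conv θ hF ha, omega_smul]
  by_cases hθ : θ = χ
  · subst hθ; ring
  · have h0 : omega (θ : G → ℂ) (invFun' (χ : G → ℂ)) = 0 := by
      classical
      rw [omega_eq_sum, div_eq_zero_iff]
      left
      have h := sum_char_mul_inv θ χ
      rw [if_neg hθ] at h
      rw [← h]
      exact Finset.sum_congr rfl fun g _ => mul_comm _ _
    rw [h0]; ring

/-- The centre of a block with characters of one degree and height zero has dimension at least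
their number, and every nonzero element of it has a nonzero multiple on the line of `χ`. -/
theorem centre_facts [M.IsPrime] (hM : IsPModular p M) {B : Set (IrrCharacter G)}
    (hB : IsPBlock M B) {d : ℕ}
    (hd : ∀ χ ∈ B, charDegree ((χ : IrrCharacter G) : G → ℂ) = d)
    (h0 : ∀ χ ∈ B, blockHeight p B ((χ : IrrCharacter G) : G → ℂ) = 0)
    {χ : IrrCharacter G} (hχ : χ ∈ B) :
    Nat.card B ≤ Module.finrank (Res M) (centreSpace M B) ∧
    ∀ a : G → ℂ, IsIntClassFun M a →
      (∃ x, ¬ MemLocalIdeal M (conv (blockCoeff B) a x)) →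
      ∃ (c : G → ℂ) (u : ℂ), IsIntClassFun M c ∧ MemLocalRing M u ∧ ¬ MemLocalIdeal M u ∧
        ∀ x, MemLocalIdeal M
          (conv (conv (blockCoeff B) a) c x - u * invFun' (χ : G → ℂ) x) := by
  classical
  have := isMaximal hM
  have := charP_res (M := M) hM
  let A := MonoidAlgebra (Res M) G
  have heI : IsIntClassFun M (blockCoeff B) := isIntClassFun_blockCoeff hM hB
  set eC := blockCoeff B with heC
  set e : A := toAlg M eC with he_def
  have he : e * e = e := by
    rw [he_def, ← toAlg_conv heI.2 heI.2, heC, conv_blockCoeff_self]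
  have hc : ∀ a, e * a = a * e := toAlg_mul_comm heI.1
  have hdim0 := finrank_block hM hB hd
  have hkpos : 0 < Nat.card B := by
    have := finite_irr (G := G)
    have : Nonempty B := (isPBlock_nonempty hB).to_subtype
    exact Nat.card_pos
  have hdpos : 0 < d := hd χ hχ ▸ charDegree_pos χ
  have he0 : e ≠ 0 := by
    intro h
    rw [← heC, ← he_def, h, LinearMap.mulLeft_zero_eq_zero, LinearMap.range_zero, finrank_bot]
      at hdim0
    exact (Nat.mul_pos hkpos (Nat.mul_pos hdpos hdpos)).ne hdim0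
  have : IsArtinianRing A := IsArtinianRing.of_finite (Res M) A
  obtain ⟨NJ, hNJ⟩ := exists_jacobson_pow (A := A)
  obtain ⟨r, dd, π₀, hdd, hπs₀, hπker⟩ := exists_pi (K := Res M) (A := A)
  have h01 : ∀ j, π₀ e j = 0 ∨ π₀ e j = 1 := fun j => by
    refine scalar_of_central (fun X => ?_) ?_
    · obtain ⟨a, ha⟩ := hπs₀ (Pi.single j X)
      have h := congrArg (fun z => π₀ z j) (hc a)
      simpa [ha] using h
    · simpa using congrArg (fun z => π₀ z j) he
  have heJ : e ∉ Ring.jacobson A := by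
    intro h
    refine he0 ?_
    have hp : ∀ m : ℕ, e ^ (m + 1) = e := fun m => by
      induction m with
      | zero => rw [pow_one]
      | succ m ih => rw [pow_succ, ih, he]
    have h1 : e ^ (NJ + 1) ∈ Ring.jacobson A ^ (NJ + 1) := Ideal.pow_mem_pow h _
    rw [hp, Submodule.pow_succ, hNJ, Submodule.bot_mul, Submodule.mem_bot] at h1
    exact h1
  obtain ⟨i, hi⟩ : ∃ i, π₀ e i ≠ 0 :=
    Function.ne_iff.mp fun h => heJ ((hπker e).mp h)
  have hi1 := (h01 i).resolve_left hi
  let proj : ∀ j, A →ₐ[Res M] Matrix (Fin (dd j)) (Fin (dd j)) (Res M) := fun j =>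
    (Pi.evalAlgHom (Res M) _ j).comp π₀
  have hproj : ∀ j z, proj j z = π₀ z j := fun j z => rfl
  have hprojs : ∀ j, Function.Surjective (proj j) := fun j X => by
    obtain ⟨a, ha⟩ := hπs₀ (Pi.single j X)
    exact ⟨a, by rw [hproj, ha, Pi.single_eq_same]⟩
  have hpos : ∀ j, 0 < dd j := fun j => (hdd j).out.bot_lt
  let T : A → Res M := fun z => ∑ g, z.coeff g * red M ((χ : G → ℂ) g)
  have hT : ∀ j, π₀ e j = 1 → d ≤ dd j ∧ ∃ a : Res M, ∀ z, (π₀ z j).trace = a * T z := by
    intro j hj
    obtain ⟨h1, a, ha⟩ := proj_facts hM hB hd h0 (proj j) (hpos j) (hprojs j) hj hχ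
    refine ⟨h1, a, fun z => ?_⟩
    induction z using MonoidAlgebra.induction_linear with
    | zero => simp [T]
    | add x y hx hy =>
      rw [map_add, Pi.add_apply, Matrix.trace_add, hx, hy]
      simp [T, add_mul, Finset.sum_add_distrib, mul_add]
    | single g b =>
      have hb : (single g b : A) = b • single g 1 := by simp [MonoidAlgebra.smul_single]
      rw [hb, map_smul, Pi.smul_apply, Matrix.trace_smul, ← hproj, ha g, smul_eq_mul]
      simp [T, Finsupp.single_apply]
      ring
  -- one component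
  have huniq : ∀ j, π₀ e j = 1 → j = i := by
    intro j hj
    by_contra hne
    obtain ⟨-, ai, hai⟩ := hT i hi1
    obtain ⟨-, aj, haj⟩ := hT j hj
    have := hdd j
    have := hdd i
    obtain ⟨z, hz⟩ := hπs₀ (Pi.single j (Matrix.single 0 0 1))
    obtain ⟨w, hw⟩ := hπs₀ (Pi.single i (Matrix.single 0 0 1))
    have h1 : (π₀ z j).trace = 1 := by rw [hz, Pi.single_eq_same, Matrix.trace_single_eq_same]
    have h2 : (π₀ z i).trace = 0 := by rw [hz, Pi.single_eq_of_ne (Ne.symm hne), Matrix.trace_zero]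
    have h3 : (π₀ w i).trace = 1 := by rw [hw, Pi.single_eq_same, Matrix.trace_single_eq_same]
    rw [haj] at h1
    rw [hai] at h2 h3
    have : ai = 0 := (mul_eq_zero.mp h2).resolve_right fun h => by simp [h] at h1
    simp [this] at h3
  obtain ⟨hdn, aT, haT⟩ := hT i hi1
  have := hdd i
  set n := dd i with hn_def
  set π := proj i with hπ_def
  have hπe : π e = 1 := hi1
  have hπJ : ∀ z ∈ Ring.jacobson A, π z = 0 := fun z hz => congrFun ((hπker z).mpr hz) i
  have hπ0 : ∀ z, e * z = z → π z = 0 → z ∈ Ring.jacobson A := by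
    intro z hz h
    refine (hπker z).mp (funext fun j => ?_)
    by_cases hj : π₀ e j = 1
    · rw [huniq j hj]; exact h
    · rw [← hz, map_mul, Pi.mul_apply, (h01 j).resolve_right hj, zero_mul]
      rfl
  obtain ⟨f, U, V, hff, hef, hπf, hπU, hπV, hUf, hfV, heU, hVe', hUV⟩ :=
    exists_units (K := Res M) e π he hc (hprojs i) hπe hπJ hπ0
  have hVe : ∀ a, V a * e = V a := fun a => by simpa using hVe' a 1
  have hVU : ∀ a b, V a * U b = if a = b then f else 0 := by
    refine units_orth hNJ hff hUf hfV hVe hUV fun a b => hπ0 _ ?_ ?_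
    · rw [mul_sub, ← mul_assoc e (V a), hc (V a), hVe]
      congr 1
      split_ifs
      · exact hef
      · exact mul_zero e
    · rw [map_sub, map_mul, hπU, hπV, sub_eq_zero]
      split_ifs with h
      · subst h; rw [Matrix.single_mul_single_same, one_mul, hπf]
      · rw [map_zero]; simp [h]
  have hf0 : f ≠ 0 := fun h => by
    rw [h, map_zero] at hπf
    simpa using congrFun (congrFun hπf.symm 0) 0
  have hn2 : n * n ≤ d * d :=
    sq_le_of_capelli e f U V hff hVU hVe hf0 fun x y => capelli_block hM hB hd (Nat.lt_succ_self _) x y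
  obtain ⟨N, hN⟩ : ∃ N, d * d = N + 1 := Nat.exists_eq_succ_of_ne_zero (Nat.mul_pos hdpos hdpos).ne'
  have hcomm : ∀ a b : A, f * a = a ∧ a * f = a → f * b = b ∧ b * f = b → a * b = b * a :=
    fun a b ha hb => corner_comm e f U V hff hVU hVe (N := N)
      (hN ▸ Nat.mul_le_mul hdn hdn)
      (fun x y => capelli_block hM hB hd (by omega) x y) ha hb
  -- central elements as functions
  have hlift : ∀ z ∈ centreSub (Res M) e, ∃ a : G → ℂ, IsIntClassFun M a ∧ z = toAlg M a ∧
      z = toAlg M (conv eC a) := by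
    intro z hz
    have hcl : ∀ g h, z.coeff (h * g * h⁻¹) = z.coeff g := fun g h => by
      have h1 := congrArg (fun w : A => w.coeff (h * g)) (hz.2 (single h 1))
      rw [coeff_mul_single_apply, coeff_single_mul_apply, one_mul, mul_one] at h1
      rw [h1]
      congr 1
      group
    choose al hal using fun C : ConjClasses G => Ideal.Quotient.mk_surjective (z.coeff C.out)
    let a : G → ℂ := fun g => ((al (ConjClasses.mk g) : localRing M) : ℂ)
    have haI : IsIntClassFun M a := ⟨fun g h => by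
      simp only [a, show ConjClasses.mk (h * g * h⁻¹) = ConjClasses.mk g from
        ConjClasses.mk_eq_mk_iff_isConj.mpr (isConj_iff.mpr ⟨h⁻¹, by group⟩)],
      fun g => (al _).2⟩
    have hza : z = toAlg M a := by
      apply MonoidAlgebra.ext
      refine Finsupp.ext fun g => ?_
      rw [coeff_toAlg, red_coe, hal]
      obtain ⟨t, ht⟩ := isConj_iff.mp (ConjClasses.mk_eq_mk_iff_isConj.mp
        (Quotient.out_eq (ConjClasses.mk g)))
      conv_lhs => rw [← ht, hcl]
    refine ⟨a, haI, hza, ?_⟩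
    rw [toAlg_conv heI.2 haI.2, ← hza, ← he_def, hz.1]
  have hmk : ∀ a : G → ℂ, IsIntClassFun M a → toAlg M (conv eC a) ∈ centreSub (Res M) e := by
    intro a ha
    refine ⟨?_, toAlg_mul_comm (isClassFunction_conv heI.1 ha.1)⟩
    rw [toAlg_conv heI.2 ha.2, ← he_def, ← mul_assoc, he]
  let Φ : A ≃ₗ[Res M] (G → Res M) :=
    (coeffLinearEquiv (Res M)).trans (Finsupp.linearEquivFunOnFinite (Res M) (Res M) G)
  have hΦ : ∀ a : G → ℂ, Φ (toAlg M a) = fun x => red M (a x) := fun a =>
    funext fun x => coeff_toAlg a x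
  refine ⟨?_, ?_⟩
  · have h1 := finrank_block_le (K := Res M) e f U V hVU hVe hUf hfV hUV he hc heU hcomm 0
    rw [hdim0] at h1
    have h2 : Module.finrank (Res M) (centreSub (Res M) e) ≤
        Module.finrank (Res M) (centreSpace M B) := by
      rw [← LinearEquiv.finrank_map_eq Φ (centreSub (Res M) e)]
      refine Submodule.finrank_mono ?_
      rintro _ ⟨z, hz, rfl⟩
      obtain ⟨a, ha, -, hza⟩ := hlift z hz
      refine Submodule.subset_span ⟨a, ha, ?_⟩
      show Φ z = _
      rw [hza, hΦ]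
    have h3 := h1.trans (Nat.mul_le_mul hn2 le_rfl)
    rw [mul_comm (d * d)] at h3
    exact (Nat.le_of_mul_le_mul_right h3 (Nat.mul_pos hdpos hdpos)).trans h2
  -- the socle
  let lam : A →ₗ[Res M] Res M :=
    (Finsupp.lapply 1).comp (coeffLinearEquiv (Res M)).toLinearMap
  have hlam : ∀ a, lam a = a.coeff 1 := fun a => rfl
  have hsym : ∀ a b, lam (a * b) = lam (b * a) := fun a b => by
    rw [hlam, hlam, coeff_mul_eq, coeff_mul_eq]
    exact Fintype.sum_equiv (Equiv.inv G) _ _ fun y => by simp [mul_comm]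
  have hnd : ∀ x, (∀ y, lam (x * y) = 0) → x = 0 := fun x hx => by
    apply MonoidAlgebra.ext
    refine Finsupp.ext fun z => ?_
    have h1 := hx (single z⁻¹ 1)
    rw [hlam, coeff_mul_single_apply, inv_inv, one_mul, mul_one] at h1
    simpa using h1
  let ω : A → Res M := fun w => π w 0 0
  have hscal : ∀ w ∈ centreSub (Res M) e, π (w - ω w • e) = 0 := by
    intro w hw
    obtain ⟨u, hu⟩ := Matrix.mem_range_scalar_of_commute_single (M := π w) fun i' j' _ => by
      obtain ⟨z, hz⟩ := hprojs i (Matrix.single i' j' 1)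
      show Matrix.single i' j' 1 * π w = π w * Matrix.single i' j' 1
      rw [← hz, ← map_mul, ← map_mul, hw.2 z]
    have hu' : ω w = u := by simp [ω, ← hu]
    rw [map_sub, map_smul, hπe, hu', sub_eq_zero, ← hu, Matrix.scalar_apply,
      Matrix.smul_one_eq_diagonal]
  have heC' : e ∈ centreSub (Res M) e := ⟨he, hc⟩
  have hsub : ∀ w ∈ centreSub (Res M) e,
      w - ω w • e ∈ centreSub (Res M) e ∧ w - ω w • e ∈ Ring.jacobson A := fun w hw => by
    have h1 := (centreSub (Res M) e).sub_mem hw ((centreSub (Res M) e).smul_mem (ω w) heC')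
    exact ⟨h1, hπ0 _ h1.1 (hscal w hw)⟩
  -- the distinguished element
  set F : A := toAlg M (invFun' (χ : G → ℂ)) with hF_def
  have hFI : IsIntClassFun M (invFun' (χ : G → ℂ)) := ⟨fun g h => by
      show (χ : G → ℂ) (h * g * h⁻¹)⁻¹ = (χ : G → ℂ) g⁻¹
      rw [show (h * g * h⁻¹)⁻¹ = h * g⁻¹ * h⁻¹ by group, irr_class χ],
    fun g => memLocalRing_of_isIntegral (isIntegral_irr χ _)⟩
  have hFmem : F ∈ centreSub (Res M) e := by
    have := hmk _ hFI
    rwa [heC, conv_blockCoeff_invFun hχ] at this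
  have hF0 : F ≠ 0 := by
    intro h
    obtain ⟨z, hz⟩ := hprojs i (Matrix.single 0 0 1)
    have h1 : (π₀ z i).trace = 1 := by
      rw [← hproj, hz, Matrix.trace_single_eq_same]
    have hT0 : T z = 0 := Finset.sum_eq_zero fun g _ => by
      have h2 := congrArg (fun w : A => w.coeff g⁻¹) h
      simp only [hF_def, coeff_toAlg, invFun', inv_inv, coeff_zero, Finsupp.zero_apply] at h2
      rw [h2, mul_zero]
    rw [haT, hT0, mul_zero] at h1
    exact zero_ne_one h1
  have hFω : ∀ w ∈ centreSub (Res M) e, F * w = ω w • F := by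
    intro w hw
    obtain ⟨a, ha, hwa, -⟩ := hlift (w - ω w • e) (hsub w hw).1
    have hω := omega_memLocalRing χ ha
    have h1 : F * (w - ω w • e) = red M (omega (χ : G → ℂ) a) • F := by
      rw [hwa, hF_def, ← toAlg_conv hFI.2 ha.2, conv_invFun_eq ha.1]
      apply MonoidAlgebra.ext
      refine Finsupp.ext fun g => ?_
      rw [coeff_toAlg, Pi.smul_apply, smul_eq_mul, red_mul hω (hFI.2 g), coeff_smul,
        Finsupp.smul_apply, coeff_toAlg, smul_eq_mul]
    have hpow : ∀ m : ℕ, red M (omega (χ : G → ℂ) a) ^ m • F ∈ Ring.jacobson A ^ m := by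
      intro m
      induction m with
      | zero => rw [Submodule.pow_zero, Ideal.one_eq_top]; trivial
      | succ m ih =>
        rw [pow_succ, mul_smul, ← h1, ← smul_mul_assoc, Submodule.pow_succ]
        exact Ideal.mul_mem_mul ih (hsub w hw).2
    have h2 := hpow NJ
    rw [hNJ, Ideal.mem_bot, smul_eq_zero] at h2
    have h3 : red M (omega (χ : G → ℂ) a) = 0 := eq_zero_of_pow_eq_zero (h2.resolve_right hF0)
    rw [h3, zero_smul, mul_sub, sub_eq_zero, mul_smul_comm, ← hc F, hFmem.1] at h1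
    exact h1
  intro a ha hne
  set z : A := toAlg M (conv eC a) with hz_def
  have hz : z ∈ centreSub (Res M) e := hmk a ha
  have hzne : z ≠ 0 := by
    obtain ⟨x, hx⟩ := hne
    intro h
    have h2 := congrArg (fun w : A => w.coeff x) h
    simp only [hz_def, coeff_toAlg, coeff_zero, Finsupp.zero_apply] at h2
    rw [show (0 : Res M) = red M 0 from (red_eq_zero memLocalIdeal_zero).symm,
      red_eq_iff ((isIntClassFun_conv heI ha).2 x) ((localRing M).zero_mem), sub_zero] at h2
    exact hx h2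
  have key : ∀ j t : ℕ, NJ ≤ j + t → ∀ y ∈ centreSub (Res M) e, y ∈ Ring.jacobson A ^ t → y ≠ 0 →
      ∃ c ∈ centreSub (Res M) e, y * c ≠ 0 ∧
        ∀ w ∈ centreSub (Res M) e, y * c * w = ω w • (y * c) := by
    intro j
    induction j with
    | zero =>
      intro t ht y hy hyt hy0
      exfalso
      apply hy0
      have : Ring.jacobson A ^ t ≤ Ring.jacobson A ^ NJ := Ideal.pow_le_pow_right (by omega)
      have h := this hyt
      rwa [hNJ, Ideal.mem_bot] at h
    | succ j ih =>
      intro t ht y hy hyt hy0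
      by_cases hsoc : ∀ w ∈ centreSub (Res M) e, y * w = ω w • y
      · exact ⟨e, heC', by rw [← hc y, hy.1]; exact hy0, fun w hw => by rw [← hc y, hy.1]; exact hsoc w hw⟩
      push Not at hsoc
      obtain ⟨w, hw, hyw⟩ := hsoc
      obtain ⟨hw', hw'J⟩ := hsub w hw
      have hy0' : y * (w - ω w • e) ≠ 0 := by
        rw [mul_sub, mul_smul_comm, ← hc y, hy.1, sub_ne_zero]
        exact hyw
      have hy' : y * (w - ω w • e) ∈ centreSub (Res M) e :=
        ⟨by rw [← mul_assoc, hy.1], fun u => by rw [mul_assoc, hw'.2 u, ← mul_assoc, hy.2 u, mul_assoc]⟩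
      obtain ⟨c, hc', hyc, hycω⟩ := ih (t + 1) (by omega) _ hy'
        (by rw [Submodule.pow_succ]; exact Ideal.mul_mem_mul hyt hw'J) hy0'
      refine ⟨(w - ω w • e) * c, ⟨by rw [← mul_assoc, hw'.1],
        fun u => by rw [mul_assoc, hc'.2 u, ← mul_assoc, hw'.2 u, mul_assoc]⟩, ?_, fun u hu => ?_⟩
      · rw [← mul_assoc]; exact hyc
      · rw [← mul_assoc y]; exact hycω u hu
  obtain ⟨c, hc', hzc, hzcω⟩ := key NJ 0 (by omega) z hz
    (by rw [Submodule.pow_zero, Ideal.one_eq_top]; trivial) hzne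
  have hzc' : z * c ∈ centreSub (Res M) e :=
    ⟨by rw [← mul_assoc, hz.1], fun u => by rw [mul_assoc, hc'.2 u, ← mul_assoc, hz.2 u, mul_assoc]⟩
  obtain ⟨s, hs⟩ := socle_ratio e f U V hff hVU hVe hUf hfV hUV hc heU hcomm 0 lam hsym hnd ω
    hzc' hFmem hzcω hFω hF0
  obtain ⟨ac, hac, hcac, -⟩ := hlift c hc'
  obtain ⟨u, hu⟩ := Ideal.Quotient.mk_surjective s
  refine ⟨ac, (u : ℂ), hac, u.2, fun hm => hzc ?_, fun x => ?_⟩
  · rw [hs, ← hu, ← red_coe, red_eq_zero hm, zero_smul]
  · have h1 := congrArg (fun w : A => w.coeff x) hs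
    rw [hz_def, hcac, ← toAlg_conv (isIntClassFun_conv heI ha).2 hac.2, ← hu, ← red_coe] at h1
    rw [coeff_smul_apply, smul_eq_mul, coeff_toAlg, hF_def, coeff_toAlg,
      ← red_mul u.2 (hFI.2 x)] at h1
    exact (red_eq_iff ((isIntClassFun_conv (isIntClassFun_conv heI ha) hac).2 x)
      ((localRing M).mul_mem u.2 (hFI.2 x))).mp h1

end Cfsg.Agent.BC87.EqAb
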